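import Mathlib

/-!
# The arithmetic excluding kernels of order `q ^ 3`
-/

set_option autoImplicit false

namespace CfsgLib.ZassenhausSimple.Suz

/-- A degree `(q + 1) m + q k` dividing `q ^ 3 (q ^ 3 + 1)` with small parameters, `q ≥ 16`. -/
theorem cube_elem {n q m k : ℕ} (hq : q = 2 ^ n) (hq16 : 16 ≤ q) (hm1 : 1 ≤ m) (hm2 : 2 * m ^ 2 ≤ q)
    (hr : ((q : ℤ) * m - k) ^ 2 ≤ q) (hdvd : (q + 1) * m + q * k ∣ q ^ 3 * (q ^ 3 + 1)) :
    (q : ℤ) * m - k = 2 * m := by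
  have hmq : m < q := by nlinarith
  obtain ⟨j, m', hm'odd, hm⟩ := Nat.exists_eq_two_pow_mul_odd (by omega : m ≠ 0)
  have hjm : 2 ^ j ≤ m := hm ▸ Nat.le_mul_of_pos_right _ hm'odd.pos
  have hjn : j < n := (Nat.pow_lt_pow_iff_right one_lt_two).mp (hq ▸ lt_of_le_of_lt hjm hmq)
  obtain ⟨Z', hZ', hZodd⟩ : ∃ Z', (q + 1) * m + q * k = 2 ^ j * Z' ∧ Odd Z' := by
    refine ⟨m' + 2 ^ (n - j) * (m + k), ?_, ?_⟩
    · have : q = 2 ^ j * 2 ^ (n - j) := by
        rw [hq, ← pow_add]; congr 1; omega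
      rw [add_mul, one_mul, mul_add (2 ^ j), ← mul_assoc (2 ^ j), ← this]
      nth_rewrite 2 [hm]
      ring
    · exact hm'odd.add_even ((Nat.even_pow.mpr ⟨even_two, by omega⟩).mul_right _)
  rw [hZ'] at hdvd
  have hco : Nat.Coprime Z' (q ^ 3) := by
    rw [hq, ← pow_mul]
    exact (Nat.coprime_two_right.mpr hZodd).pow_right _
  obtain ⟨k₀, hk₀⟩ := hco.dvd_of_dvd_mul_left ((Dvd.intro_left _ rfl).trans hdvd)
  obtain ⟨P, hP⟩ : ∃ P : ℤ, P = (2 : ℤ) ^ j := ⟨_, rfl⟩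
  obtain ⟨Z, hZ⟩ : ∃ Z : ℤ, Z = (((q + 1) * m + q * k : ℕ) : ℤ) := ⟨_, rfl⟩
  have hZk : (k₀ : ℤ) * Z = P * ((q : ℤ) ^ 3 + 1) := by
    have h1 : (q : ℤ) ^ 3 + 1 = (Z' : ℤ) * k₀ := by exact_mod_cast hk₀
    rw [hZ, hZ', h1, hP]
    push_cast
    ring
  obtain ⟨r, hrd⟩ : ∃ r : ℤ, r = (q : ℤ) * m - k := ⟨_, rfl⟩
  rw [← hrd] at hr ⊢
  have hZr : Z = (m : ℤ) * ((q : ℤ) ^ 2 + q + 1) - q * r := by rw [hZ, hrd]; push_cast; ring
  obtain ⟨jj, hjj⟩ : ∃ jj : ℤ, jj = P * (q : ℤ) ^ 2 - (k₀ : ℤ) * ((m : ℤ) + k) := ⟨_, rfl⟩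
  have hE1 : (k₀ : ℤ) * m - jj * q - P = 0 := by
    rw [hjj]
    rw [hZ] at hZk
    push_cast at hZk
    linear_combination hZk
  have hkey : (jj - P) * Z = P * ((q : ℤ) + 1) * (r - 2 * m) := by
    have hq0 : (q : ℤ) ≠ 0 := by exact_mod_cast (by omega : q ≠ 0)
    refine mul_left_cancel₀ hq0 ?_
    linear_combination (m : ℤ) * hZk - Z * hE1 - P * (1 + (q : ℤ)) * hZr
  by_contra hne
  have hZpos : 0 < Z := by
    rw [hZ]
    exact_mod_cast (by positivity : 0 < (q + 1) * m + q * k)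
  have hP0 : 0 < P := by rw [hP]; positivity
  have hδ : jj - P ≠ 0 := fun h => by
    rw [h, zero_mul] at hkey
    rcases mul_eq_zero.mp hkey.symm with h1 | h1
    · nlinarith
    · exact hne (by linarith)
  have hZle : Z ≤ P * ((q : ℤ) + 1) * |r - 2 * m| := by
    calc Z ≤ |jj - P| * Z := le_mul_of_one_le_left hZpos.le (Int.one_le_abs hδ)
      _ = |(jj - P) * Z| := by rw [abs_mul, abs_of_pos hZpos]
      _ = P * ((q : ℤ) + 1) * |r - 2 * m| := by
        rw [hkey, abs_mul, abs_of_pos (by positivity : (0 : ℤ) < P * ((q : ℤ) + 1))]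
  have hPm : P ≤ m := by rw [hP]; exact_mod_cast hjm
  have hZle' : Z ≤ (m : ℤ) * ((q : ℤ) + 1) * (|r| + 2 * m) := by
    refine hZle.trans (mul_le_mul ?_ ?_ (abs_nonneg _) (by positivity))
    · exact mul_le_mul_of_nonneg_right hPm (by positivity)
    · calc |r - 2 * m| ≤ |r| + |2 * (m : ℤ)| := abs_sub _ _
        _ = |r| + 2 * m := by rw [abs_of_nonneg (by positivity : (0 : ℤ) ≤ 2 * (m : ℤ))]
  have hs : 2 * |r| + 2 * (m : ℤ) ≤ (q : ℤ) - 1 := by
    have h1 : |r| ^ 2 ≤ q := by rw [sq_abs]; exact hr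
    have h2 : 2 * (m : ℤ) ^ 2 ≤ q := by exact_mod_cast hm2
    have hq' : (16 : ℤ) ≤ q := by exact_mod_cast hq16
    nlinarith [sq_nonneg (|r| - (m : ℤ)), abs_nonneg r]
  have hm' : (1 : ℤ) ≤ m := by exact_mod_cast hm1
  have h3 : (q : ℤ) * r ≤ (m : ℤ) * ((q : ℤ) + 1) * |r| := by
    calc (q : ℤ) * r ≤ (q : ℤ) * |r| := mul_le_mul_of_nonneg_left (le_abs_self r) (by positivity)
      _ ≤ ((m : ℤ) * ((q : ℤ) + 1)) * |r| :=
        mul_le_mul_of_nonneg_right (le_trans (by linarith : (q : ℤ) ≤ (q : ℤ) + 1)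
          (le_mul_of_one_le_left (by positivity) hm')) (abs_nonneg r)
  have h4 : (m : ℤ) * ((q : ℤ) + 1) * (2 * |r| + 2 * m) ≤ m * ((q : ℤ) + 1) * ((q : ℤ) - 1) :=
    mul_le_mul_of_nonneg_left hs (by positivity)
  have h5 : (0 : ℤ) < (m : ℤ) * q := by positivity
  linarith [hZle', hZr, h3, h4, h5]

/-- The numerical contradiction for a kernel of order `q ^ 3`. -/
theorem cube_false {ι : Type*} (R : Finset ι) {n q p : ℕ} (hq : q = 2 ^ n) (hn : 2 ≤ n)
    (hp : q = 2 * p + 2) (m k : ι → ℕ)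
    (hdvd : ∀ i ∈ R, (q + 1) * m i + q * k i ∣ q ^ 3 * (q ^ 3 + 1))
    (h1 : ∑ i ∈ R, (m i : ℤ) ^ 2 = p)
    (h2 : ∑ i ∈ R, (m i : ℤ) * k i = (p : ℤ) * q - 1)
    (h3 : ∑ i ∈ R, (k i : ℤ) ^ 2 = (p : ℤ) * q ^ 2 - q) : False := by
  classical
  have hq4 : 4 ≤ q := hq ▸ (by calc 4 = 2 ^ 2 := rfl
                                    _ ≤ 2 ^ n := Nat.pow_le_pow_right two_pos hn)
  set r : ι → ℤ := fun i => (q : ℤ) * m i - k i with hr
  have hrm : ∑ i ∈ R, r i * m i = 1 := by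
    rw [Finset.sum_congr rfl (g := fun i => (q : ℤ) * (m i : ℤ) ^ 2 - (m i : ℤ) * k i)
      (fun i _ => by simp only [hr]; ring), Finset.sum_sub_distrib, ← Finset.mul_sum, h1, h2]
    ring
  have hrr : ∑ i ∈ R, r i ^ 2 = q := by
    rw [Finset.sum_congr rfl (g := fun i => (q : ℤ) ^ 2 * (m i : ℤ) ^ 2 -
        2 * q * ((m i : ℤ) * k i) + (k i : ℤ) ^ 2)
      (fun i _ => by simp only [hr]; ring), Finset.sum_add_distrib, Finset.sum_sub_distrib,
      ← Finset.mul_sum, ← Finset.mul_sum, h1, h2, h3]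
    ring
  have hall : ∀ i ∈ R, r i * m i = 2 * (m i : ℤ) ^ 2 := by
    intro i hi
    rcases Nat.eq_zero_or_pos (m i) with h0 | h0
    · rw [h0]; simp
    have hmp : (m i : ℤ) ^ 2 ≤ p :=
      h1 ▸ Finset.single_le_sum (f := fun i => (m i : ℤ) ^ 2) (fun j _ => sq_nonneg _) hi
    have hrq : r i ^ 2 ≤ q :=
      hrr ▸ Finset.single_le_sum (f := fun i => r i ^ 2) (fun j _ => sq_nonneg _) hi
    by_cases hq16 : 16 ≤ q
    · have hm2 : 2 * m i ^ 2 ≤ q := by
        have : m i ^ 2 ≤ p := by exact_mod_cast hmp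
        omega
      rw [show r i = 2 * (m i : ℤ) from cube_elem hq hq16 h0 hm2 hrq (hdvd i hi)]
      ring
    have hn3 : n = 2 ∨ n = 3 := by
      by_contra hcon
      have : 2 ^ 4 ≤ 2 ^ n := Nat.pow_le_pow_right two_pos (by omega)
      omega
    have hm1 : m i = 1 := by
      have hp3 : (p : ℤ) ≤ 3 := by
        rcases hn3 with rfl | rfl <;> norm_num at hq <;> omega
      have : (m i : ℤ) ≤ 1 := by nlinarith
      omega
    rcases hn3 with rfl | rfl
    · norm_num at hq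
      subst hq
      exfalso
      have hp1 : p = 1 := by omega
      have hzero : ∀ j ∈ R, j ≠ i → r j * m j = 0 := by
        intro j hj hne
        have h := Finset.sum_le_sum_of_subset_of_nonneg (f := fun i => (m i : ℤ) ^ 2)
          (show insert j ({i} : Finset ι) ⊆ R by simp [Finset.insert_subset_iff, hi, hj])
          (fun _ _ _ => sq_nonneg _)
        rw [Finset.sum_insert (by simp [hne]), Finset.sum_singleton, h1, hp1, hm1] at h
        have : (m j : ℤ) ^ 2 ≤ 0 := by push_cast at h; linarith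
        have : (m j : ℤ) = 0 := pow_eq_zero_iff two_ne_zero |>.mp (le_antisymm this (sq_nonneg _))
        rw [this, mul_zero]
      rw [Finset.sum_eq_single_of_mem i hi hzero, hm1] at hrm
      simp only [hr, hm1] at hrm
      have hk3 : k i = 3 := by push_cast at hrm; omega
      have := hdvd i hi
      rw [hm1, hk3] at this
      norm_num at this
    · norm_num at hq
      subst hq
      have hb : -2 ≤ r i ∧ r i ≤ 2 := ⟨by push_cast at hrq; nlinarith, by push_cast at hrq; nlinarith⟩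
      simp only [hr, hm1] at hb ⊢
      push_cast at hb
      have hklo : 6 ≤ k i := by omega
      have hkhi : k i ≤ 10 := by omega
      have := hdvd i hi
      rw [hm1] at this
      interval_cases hki : k i <;> norm_num at this <;> norm_num
  rw [Finset.sum_congr rfl hall, ← Finset.mul_sum, h1] at hrm
  omega

/-- The constituents of an exceptional character of a smaller degree are too few. -/
theorem small_false {q a N : ℤ} (hq : 4 ≤ q) (ha : 0 ≤ a) (ha2 : a ≤ 2 * q - 2) (h2a : 2 * a ≤ q * N)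
    (hN : 1 ≤ N) (hb : (q ^ 3 + 1) * N ≤ (q - 1) * (1 + a) ^ 2) : False := by
  have hq1 : (0 : ℤ) ≤ q - 1 := by linarith
  have hqq : 4 * q ≤ q ^ 2 := by
    calc 4 * q ≤ q * q := mul_le_mul_of_nonneg_right hq (by linarith)
      _ = q ^ 2 := (pow_two q).symm
  have hq3 : 4 * q ^ 2 ≤ q ^ 3 := by
    calc 4 * q ^ 2 ≤ q * q ^ 2 := mul_le_mul_of_nonneg_right hq (sq_nonneg q)
      _ = q ^ 3 := by ring
  have key : ∀ B : ℤ, 2 + 2 * a ≤ B → (q - 1) * (4 * (1 + a) ^ 2) ≤ (q - 1) * B ^ 2 := fun B hB => by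
    refine mul_le_mul_of_nonneg_left ?_ hq1
    calc 4 * (1 + a) ^ 2 = (2 + 2 * a) ^ 2 := by ring
      _ ≤ B ^ 2 := pow_le_pow_left₀ (by linarith) hB 2
  rcases (show N = 1 ∨ N = 2 ∨ N = 3 ∨ 4 ≤ N by omega) with rfl | rfl | rfl | h4
  · linarith [key (2 + q) (by linarith)]
  · linarith [key (2 + 2 * q) (by linarith)]
  · linarith [key (2 + 3 * q) (by linarith)]
  · have h5 : (q ^ 3 + 1) * 4 ≤ (q ^ 3 + 1) * N := mul_le_mul_of_nonneg_left h4 (by positivity)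
    linarith [key (4 * q - 2) (by linarith)]

end CfsgLib.ZassenhausSimple.Suz
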