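import Cfsg.Agent.Lib.ZassenhausSimple.Suzuki.Restrict

/-!
# A bound from the conjugates of the kernel
-/

set_option autoImplicit false
set_option linter.unusedSectionVars false

namespace CfsgLib.ZassenhausSimple.Suz

open MulAction CfsgLib.Char CfsgLib.Char.Zassenhaus CfsgLib.Classical22.CTK
open scoped ComplexConjugate

variable {G Ω : Type*} [Group G] [Fintype G] [MulAction G Ω] [Fintype Ω]
variable {a b : Ω} {H : Subgroup G} [Fintype (stabilizer G a)] [Fintype (Rel G a H)]

/-- An irreducible character whose restriction to the point stabiliser has only relevant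
constituents is large off the identity. -/
theorem FData.norm_bound (D : FData a b H) {χ : G → ℂ} (hχ : Cfsg.IsIrrCharacter G χ) {Y : ℤ}
    (hY : χ 1 = (Y : ℂ)) {m : Rel G a H → ℕ}
    (hexp : ∀ z : stabilizer G a, χ z = ∑ j, (m j : ℂ) * th j z) :
    Y ^ 2 + ((Nat.card H : ℤ) + 1) *
        ((Nat.card H : ℤ) * kk G a b * ∑ j, (m j : ℤ) ^ 2 - Y ^ 2) ≤ (Nat.card G : ℤ) := by
  classical
  have := CfsgLib.Char.Zassenhaus.isPretransitive D.hZ
  let f : G → ℝ := fun g => Complex.normSq (χ g)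
  have hf : ∀ g, ((f g : ℝ) : ℂ) = χ g * conj (χ g) := fun g => by
    rw [Complex.mul_conj]
  have hG : ∑ g : G, f g = (Nat.card G : ℝ) := by
    have h := classInner_irr_self hχ
    rw [classInner_def, inv_mul_eq_iff_eq_mul₀ card_ne_zero', mul_one] at h
    have h' : ((∑ g : G, f g : ℝ) : ℂ) = ((Nat.card G : ℝ) : ℂ) := by
      push_cast
      rw [Finset.sum_congr rfl fun g _ => hf g, h]
    exact_mod_cast h'
  have hN : ∑ z : stabilizer G a, f (z : G) =
      (Nat.card H : ℝ) * kk G a b * ∑ j, (m j : ℝ) ^ 2 := by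
    have he : (fun z : stabilizer G a => χ z) = ∑ j, (m j : ℂ) • th j := funext fun z => by
      simp [hexp z]
    have h : Cfsg.classInner (fun z : stabilizer G a => χ z) (fun z : stabilizer G a => χ z) =
        ∑ j, (m j : ℂ) ^ 2 := by
      rw [he, classInner_sum_left]
      refine Finset.sum_congr rfl fun i _ => ?_
      rw [classInner_sum_right, Finset.sum_eq_single i]
      · rw [classInner_smul_left, classInner_smul_right, classInner_irr_self (th_irr i), map_natCast]
        ring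
      · intro j _ hji
        rw [classInner_smul_left, classInner_smul_right,
          classInner_irr_ne (th_irr i) (th_irr j) fun e => hji (th_injective e).symm]
        simp
      · exact fun hi => absurd (Finset.mem_univ i) hi
    rw [classInner_def, inv_mul_eq_iff_eq_mul₀ card_ne_zero', D.card_point] at h
    have h' : ((∑ z : stabilizer G a, f (z : G) : ℝ) : ℂ) =
        (((Nat.card H : ℝ) * kk G a b * ∑ j, (m j : ℝ) ^ 2 : ℝ) : ℂ) := by
      push_cast
      rw [Finset.sum_congr rfl fun (z : stabilizer G a) _ => hf (z : G), h]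
      push_cast
      ring
    exact_mod_cast h'
  have h1 : f 1 = (Y : ℝ) ^ 2 := by
    simp only [f]
    rw [hY, show ((Y : ℤ) : ℂ) = (((Y : ℝ)) : ℂ) by push_cast; rfl, Complex.normSq_ofReal, pow_two]
  set K := Finset.univ.filter fun v : G => v ∈ H ∧ v ≠ 1 with hK
  have hKsum : f 1 + ∑ v ∈ K, f v = ∑ z : stabilizer G a, f (z : G) := by
    rw [← Finset.add_sum_erase _ _ (Finset.mem_univ (1 : stabilizer G a)), OneMemClass.coe_one,
      ← Finset.sum_subset
        (show (Finset.univ.filter fun z : stabilizer G a => (z : G) ∈ H ∧ (z : G) ≠ 1) ⊆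
            Finset.univ.erase 1 from fun z hz => Finset.mem_erase.mpr
          ⟨fun e => (Finset.mem_filter.mp hz).2.2 (by rw [e]; rfl), Finset.mem_univ _⟩)
        (fun z hz hz' => by
          have hzH : (z : G) ∉ H := fun h => hz' (Finset.mem_filter.mpr ⟨Finset.mem_univ _, h,
            fun e => (Finset.mem_erase.mp hz).1 (Subtype.ext e)⟩)
          simp only [f]
          rw [hexp z, Finset.sum_eq_zero fun j _ => by rw [D.th_out j hzH, mul_zero], map_zero])]
    congr 1
    exact Finset.sum_bij' (fun v hv => (⟨v, D.hHa (Finset.mem_filter.mp hv).2.1⟩ : stabilizer G a))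
      (fun z _ => (z : G))
      (fun v hv => Finset.mem_filter.mpr ⟨Finset.mem_univ _, (Finset.mem_filter.mp hv).2⟩)
      (fun z hz => Finset.mem_filter.mpr ⟨Finset.mem_univ _, (Finset.mem_filter.mp hz).2⟩)
      (fun v _ => rfl) (fun z _ => rfl) (fun v _ => rfl)
  choose g hg using fun c : Ω => MulAction.exists_smul_eq G a c
  have hinj : Set.InjOn (fun p : Ω × G => g p.1 * p.2 * (g p.1)⁻¹)
      ↑((Finset.univ : Finset Ω) ×ˢ K) := by
    intro p hp p' hp' e
    obtain ⟨-, hpH, hp1⟩ : _ ∧ p.2 ∈ H ∧ p.2 ≠ 1 :=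
      ⟨(Finset.mem_product.mp hp).1, (Finset.mem_filter.mp (Finset.mem_product.mp hp).2).2⟩
    obtain ⟨-, hpH', hp1'⟩ : _ ∧ p'.2 ∈ H ∧ p'.2 ≠ 1 :=
      ⟨(Finset.mem_product.mp hp').1, (Finset.mem_filter.mp (Finset.mem_product.mp hp').2).2⟩
    change g p.1 * p.2 * (g p.1)⁻¹ = g p'.1 * p'.2 * (g p'.1)⁻¹ at e
    have hc : p.1 = p'.1 := by
      have h2 : (g p'.1 * p'.2 * (g p'.1)⁻¹) • p'.1 = p'.1 := by
        rw [mul_smul, mul_smul, show (g p'.1)⁻¹ • p'.1 = a from inv_smul_eq_iff.mpr (hg p'.1).symm,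
          mem_stabilizer_iff.mp (D.hHa hpH'), hg]
      rw [← e, mul_smul, mul_smul, ← eq_inv_smul_iff] at h2
      have h3 := D.hHfix _ hpH hp1 _ h2
      rw [inv_smul_eq_iff, hg] at h3
      exact h3.symm
    exact Prod.ext hc (mul_left_cancel (mul_right_cancel (hc ▸ e)))
  have hsum : (Fintype.card Ω : ℝ) * ∑ v ∈ K, f v ≤ ∑ x ∈ Finset.univ.erase (1 : G), f x := by
    refine le_trans (le_of_eq ?_) (Finset.sum_le_sum_of_subset_of_nonneg
      (show ((Finset.univ : Finset Ω) ×ˢ K).image (fun p : Ω × G => g p.1 * p.2 * (g p.1)⁻¹) ⊆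
        Finset.univ.erase 1 from ?_) (fun x _ _ => Complex.normSq_nonneg _))
    · rw [Finset.sum_image hinj, Finset.sum_product, Finset.sum_congr rfl fun c _ =>
        Finset.sum_congr rfl (g := f) fun v _ => by
          simp only [f]
          rw [show χ (g c * v * (g c)⁻¹) = χ v from isClassFunction_of_isIrr hχ _ _],
        Finset.sum_const, Finset.card_univ, nsmul_eq_mul]
    · intro x hx
      obtain ⟨p, hp, rfl⟩ := Finset.mem_image.mp hx
      exact Finset.mem_erase.mpr ⟨fun e => (Finset.mem_filter.mp (Finset.mem_product.mp hp).2).2.2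
        (conj_eq_one_iff.mp e), Finset.mem_univ _⟩
  have hKval : ∑ v ∈ K, f v = (Nat.card H : ℝ) * kk G a b * ∑ j, (m j : ℝ) ^ 2 - (Y : ℝ) ^ 2 := by
    linarith [hN, hKsum, h1]
  have hΩ : (Fintype.card Ω : ℝ) = (Nat.card H : ℝ) + 1 := by exact_mod_cast D.hHcard.symm
  rw [← Finset.add_sum_erase _ _ (Finset.mem_univ (1 : G))] at hG
  rw [hKval, hΩ] at hsum
  have hfin : (((Y ^ 2 + ((Nat.card H : ℤ) + 1) *
      ((Nat.card H : ℤ) * kk G a b * ∑ j, (m j : ℤ) ^ 2 - Y ^ 2) : ℤ)) : ℝ) ≤
      ((Nat.card G : ℤ) : ℝ) := by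
    push_cast
    linarith
  exact_mod_cast hfin

end CfsgLib.ZassenhausSimple.Suz
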