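import Cfsg.Agent.Lib.ZassenhausSimple.Suzuki.CubeLocal
import Cfsg.Agent.Lib.ZassenhausSimple.Suzuki.CubeArith
import Cfsg.Agent.Lib.ZassenhausSimple.Suzuki.CubeBound
import Cfsg.Agent.Lib.Char.Integral

/-!
# The kernel of a simple Zassenhaus group is not a Suzuki 2-group of order `q ^ 3`
-/

set_option autoImplicit false
set_option linter.unusedSectionVars false
set_option maxHeartbeats 1600000

namespace CfsgLib.ZassenhausSimple.Suz

open MulAction CfsgLib.Char CfsgLib.Char.Zassenhaus CfsgLib.Classical22.CTK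
open scoped ComplexConjugate

variable {G Ω : Type*} [Group G] [Fintype G] [MulAction G Ω] [Fintype Ω]
variable {a b : Ω} {H : Subgroup G}

theorem ZData.not_cube (D : ZData a b H) {e : ℕ} (he : 2 ≤ e) (hd : kk G a b + 1 = 2 ^ e)
    (hh : Nat.card H = (2 ^ e) ^ 3) : False := by
  classical
  have := D.simple
  have := Fintype.ofFinite (stabilizer G a)
  have := Fintype.ofFinite (Rel G a H)
  have F := D.fdata
  have hd3 := F.three_le_kk
  obtain ⟨q, hq⟩ : ∃ q : ℕ, q = 2 ^ e := ⟨_, rfl⟩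
  rw [← hq] at hd hh
  obtain ⟨p, hp⟩ : ∃ p : ℕ, q = 2 * p + 2 := by
    obtain ⟨i, hi⟩ := (D.hodd)
    exact ⟨i, by change Nat.card _ + 1 = q at hd; omega⟩
  obtain ⟨hflat, hval, hpow, hs, hbig⟩ := D.flat_facts hd hh
  obtain ⟨t, htz, ht1⟩ := D.exists_central
  have htH : t ∈ H := zc_le htz
  set N := stabilizer G a with hN
  set d := kk G a b with hdd
  set h := Nat.card H with hhd
  set S1 := Finset.univ.filter (fun j : Rel G a H => Flat j) with hS1
  set S2 := Finset.univ.filter (fun j : Rel G a H => ¬ Flat j) with hS2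
  choose n m hn hm h1 hv h0 using
    fun χ : Cfsg.IrrCharacter G => F.res_val (isCharacter_of_isIrr χ.2)
  let M1 : Cfsg.IrrCharacter G → ℕ := fun χ => ∑ l ∈ S1, m χ l
  let A : Cfsg.IrrCharacter G → ℕ := fun χ => ∑ l ∈ S2, m χ l * dd b l
  let Y : Cfsg.IrrCharacter G → ℤ := fun χ => (n χ : ℤ) + d * ((M1 χ : ℤ) + A χ)
  let X : Cfsg.IrrCharacter G → ℤ := fun χ => (n χ : ℤ) + d * (M1 χ : ℤ) - A χ
  have hY : ∀ χ : Cfsg.IrrCharacter G, (χ : G → ℂ) 1 = (Y χ : ℂ) := by
    intro χ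
    rw [h1 χ, ← Finset.sum_filter_add_sum_filter_not Finset.univ (fun l : Rel G a H => Flat l),
      ← hS1, ← hS2]
    simp only [Y, M1, A]
    push_cast
    rw [Finset.sum_congr rfl (g := fun l => (m χ l : ℂ)) (fun l hl => by
      rw [hflat l (Finset.mem_filter.mp hl).2, Nat.cast_one, mul_one])]
  have hX : ∀ χ : Cfsg.IrrCharacter G, (χ : G → ℂ) t = (X χ : ℂ) := by
    intro χ
    rw [hv χ t htH, ← Finset.sum_filter_add_sum_filter_not Finset.univ (fun l : Rel G a H => Flat l),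
      ← hS1, ← hS2]
    simp only [X, M1, A]
    push_cast
    rw [Finset.sum_congr rfl (g := fun l => (d : ℂ) * (m χ l : ℂ)) (fun l hl => by
        rw [hval l t htz ht1, if_pos (Finset.mem_filter.mp hl).2]; ring),
      Finset.sum_congr rfl (s₁ := S2) (g := fun l => -((m χ l : ℂ) * (dd b l : ℂ))) (fun l hl => by
        rw [hval l t htz ht1, if_neg (Finset.mem_filter.mp hl).2]; ring),
      ← Finset.mul_sum, Finset.sum_neg_distrib]
    ring
  have hYX : ∀ χ, Y χ + d * X χ = q * ((n χ : ℤ) + d * (M1 χ : ℤ)) := fun χ => by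
    have hdq : (d : ℤ) + 1 = q := by exact_mod_cast hd
    simp only [Y, X]
    rw [← hdq]; ring
  -- orthogonality of the two columns
  have hcardG : (Nat.card G : ℤ) = ((h : ℤ) + 1) * h * d := by
    rw [← card_group D.hZ D.hab, ← D.hHcard]
    push_cast
    simp [hhd, hdd]
  have hne : ¬ IsConj (1 : G) t := fun hc => ht1 (isConj_one_right.mp hc)
  have hcent1 : Nat.card (Subgroup.centralizer ({(1 : G)} : Set G)) = Nat.card G := by
    rw [show Subgroup.centralizer ({(1 : G)} : Set G) = ⊤ from Subgroup.eq_top_iff' _ |>.mpr fun x =>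
      Subgroup.mem_centralizer_singleton_iff.mpr (by simp), Subgroup.card_top]
  have hcentt : Nat.card (Subgroup.centralizer ({t} : Set G)) = h := by
    rw [show Subgroup.centralizer ({t} : Set G) = H from Subgroup.ext fun c => by
      rw [Subgroup.mem_centralizer_singleton_iff]; exact D.cent_iff htz ht1]
  have hYY : ∑ χ, Y χ * Y χ = (Nat.card G : ℤ) := by
    have h' := second_orthogonality (1 : G) 1
    rw [if_pos (IsConj.refl _), hcent1] at h'
    have h'' : ((∑ χ, Y χ * Y χ : ℤ) : ℂ) = (((Nat.card G : ℕ) : ℤ) : ℂ) := by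
      push_cast
      rw [← h']
      exact Finset.sum_congr rfl fun χ _ => by rw [hY χ, map_intCast]
    exact_mod_cast h''
  have hXX : ∑ χ, X χ * X χ = (h : ℤ) := by
    have h' := second_orthogonality t t
    rw [if_pos (IsConj.refl _), hcentt] at h'
    have h'' : ((∑ χ, X χ * X χ : ℤ) : ℂ) = (((h : ℕ) : ℤ) : ℂ) := by
      push_cast
      rw [← h']
      exact Finset.sum_congr rfl fun χ _ => by rw [hX χ, map_intCast]
    exact_mod_cast h''
  have hXY : ∑ χ, Y χ * X χ = 0 := by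
    have h' := second_orthogonality (1 : G) t
    rw [if_neg hne] at h'
    have h'' : ((∑ χ, Y χ * X χ : ℤ) : ℂ) = ((0 : ℤ) : ℂ) := by
      push_cast
      rw [← h']
      exact Finset.sum_congr rfl fun χ _ => by rw [hY χ, hX χ, map_intCast]
    exact_mod_cast h''
  -- the trivial parts
  have := Fintype.ofFinite H
  have hnH : ∀ χ : Cfsg.IrrCharacter G, ∑ v : H, (χ : G → ℂ) v = (h : ℂ) * n χ := by
    intro χ
    rw [Finset.sum_congr rfl fun (v : H) _ => hv χ v v.2, Finset.sum_add_distrib, Finset.sum_const,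
      Finset.card_univ, nsmul_eq_mul, Finset.sum_comm,
      Finset.sum_congr rfl fun j _ => by rw [← Finset.mul_sum, F.sum_kernel j, mul_zero],
      Finset.sum_const_zero, add_zero, hhd, Nat.card_eq_fintype_card]
  have hnY : ∑ χ, Y χ * (n χ : ℤ) = ((h : ℤ) + 1) * d := by
    have h' : ∑ χ : Cfsg.IrrCharacter G, ∑ v : H, (χ : G → ℂ) 1 * (χ : G → ℂ) v = (Nat.card G : ℂ) := by
      rw [Finset.sum_comm, Finset.sum_congr rfl fun (v : H) _ => sum_degree_mul_apply (v : G),
        Finset.sum_eq_single (1 : H)]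
      · simp
      · intro v _ hv1
        rw [if_neg (fun e : (v : G) = 1 => hv1 (Subtype.ext e))]
      · exact fun hi => absurd (Finset.mem_univ _) hi
    rw [Finset.sum_congr rfl fun χ _ => by rw [← Finset.mul_sum, hnH χ, hY χ]] at h'
    have h2 : ((∑ χ, Y χ * ((h : ℤ) * n χ) : ℤ) : ℂ) = ((Nat.card G : ℤ) : ℂ) := by
      push_cast
      exact h'
    have h3 : ∑ χ, Y χ * ((h : ℤ) * n χ) = (Nat.card G : ℤ) := by exact_mod_cast h2
    rw [hcardG, Finset.sum_congr rfl (g := fun χ => (h : ℤ) * (Y χ * n χ)) (fun χ _ => by ring),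
      ← Finset.mul_sum] at h3
    refine mul_left_cancel₀ (show (h : ℤ) ≠ 0 by exact_mod_cast (Nat.card_pos).ne') ?_
    rw [h3]; ring
  -- coherence
  obtain ⟨i₀, hi₀⟩ : ∃ i₀, i₀ ∈ S1 := Finset.card_pos.mp (by rw [hs]; omega)
  let ι := {j : Rel G a H // Flat j}
  let o : ι := ⟨i₀, (Finset.mem_filter.mp hi₀).2⟩
  let τ : ι → G → ℂ := fun i => Cfsg.indFun N (th i.1 - th o.1)
  have hone0 : ∀ i : ι, (th i.1 - th o.1) 1 = 0 := fun i => by
    simp [(F.th_one i.1).1, (F.th_one o.1).1, hflat _ i.2, hflat _ o.2]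
  have hout : ∀ i : ι, ∀ z : N, (z : G) ∉ (H : Set G) → (th i.1 - th o.1) z = 0 := fun i z hz => by
    simp [F.th_out i.1 hz, F.th_out o.1 hz]
  have hcl : ∀ i : ι, Cfsg.IsClassFunction N (th i.1 - th o.1) := fun i =>
    isClassFunction_sub (isClassFunction_of_isIrr (th_irr i.1)) (isClassFunction_of_isIrr (th_irr o.1))
  have hTI : ∀ g : G, g ∉ N → ∀ v ∈ (H : Set G), g * v * g⁻¹ ∈ (H : Set G) → v = 1 :=
    fun g hg v hv' hc => F.ti hg hv' hc
  obtain ⟨εc, hεc, μ, hμ, hμinj, hτ⟩ := coherent_of_gram o τ (by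
      funext g
      have hz : ∀ x : G, Cfsg.extendByZero N (th o.1 - th o.1) x = 0 := fun x => by
        by_cases hx : x ∈ N
        · rw [extendByZero_of_mem _ hx, sub_self, Pi.zero_apply]
        · exact extendByZero_of_notMem _ hx
      simp only [τ]
      rw [indFun_apply, Finset.sum_eq_zero fun x _ => hz _, mul_zero, Pi.zero_apply]) (fun i => isGen_indFun N (isGen_sub (isGen_of_irr (th_irr i.1))
        (isGen_of_irr (th_irr o.1))))
    (fun i => by simp only [τ]; rw [indFun_one, hone0, mul_zero])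
    (fun i j hi hj => by
      simp only [τ]
      rw [classInner_indFun_of_TI N (H : Set G) hTI (hcl j) (hout i) (hout j) (hone0 i)]
      simp only [classInner_sub_left, classInner_sub_right]
      rw [classInner_irr_self (th_irr o.1),
        classInner_irr_ne (th_irr i.1) (th_irr o.1) fun e => hi (Subtype.ext (th_injective e)),
        classInner_irr_ne (th_irr o.1) (th_irr j.1) fun e => hj (Subtype.ext (th_injective e)).symm]
      by_cases hij : i = j
      · subst hij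
        rw [classInner_irr_self (th_irr i.1), if_pos rfl]; ring
      · rw [classInner_irr_ne (th_irr i.1) (th_irr j.1)
          fun e => hij (Subtype.ext (th_injective e)), if_neg hij]; ring)
  obtain ⟨ε, hε, hεeq⟩ : ∃ ε : ℤ, (ε = 1 ∨ ε = -1) ∧ εc = (ε : ℂ) := by
    rcases hεc with e | e
    · exact ⟨1, Or.inl rfl, by simp [e]⟩
    · exact ⟨-1, Or.inr rfl, by simp [e]⟩
  subst hεeq
  have hε0 : (ε : ℂ) ≠ 0 := by rcases hε with e | e <;> simp [e]
  let M : ι → Cfsg.IrrCharacter G := fun i => ⟨μ i, hμ i⟩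
  have hMinj : Function.Injective M := fun i j e => hμinj (congrArg Subtype.val e)
  have hinner : ∀ (i : ι) (χ : Cfsg.IrrCharacter G), Cfsg.classInner (τ i) (χ : G → ℂ) =
      (ε : ℂ) * ((if M i = χ then 1 else 0) - if M o = χ then 1 else 0) := by
    intro i χ
    rw [hτ i, classInner_smul_left, classInner_sub_left]
    congr 2 <;> exact classInner_irrCharacter (M _) χ
  have hdiff : ∀ (χ : Cfsg.IrrCharacter G) (i : ι), (m χ i.1 : ℂ) - (m χ o.1 : ℂ) =
      (ε : ℂ) * ((if M i = χ then 1 else 0) - if M o = χ then 1 else 0) := by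
    intro χ i
    have h' : Cfsg.classInner (χ : G → ℂ) (τ i) = (m χ i.1 : ℂ) - (m χ o.1 : ℂ) := by
      simp only [τ]
      rw [frobenius_reciprocity' N _ (isClassFunction_of_isIrr χ.2), classInner_sub_right, hm, hm]
    rw [← h', ← classInner_conj_symm, hinner i χ]
    simp only [map_mul, map_sub, apply_ite (starRingEnd ℂ), map_one, map_zero, map_intCast]
  have hιcard : Fintype.card ι = q + 1 := by rw [Fintype.card_subtype, ← hS1, hs]
  obtain ⟨l₀, hl₀⟩ : ∃ l₀ : ι, l₀ ≠ o := by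
    refine Fintype.exists_ne_of_one_lt_card ?_ o
    omega
  have hnc : ∀ (i : ι) (c : ℂ), ¬ ∀ v ∈ H, v ≠ 1 → (M i : G → ℂ) v = c := by
    intro i c hc
    obtain ⟨j, hji⟩ : ∃ j : ι, (i = o ∧ j ≠ o) ∨ (i ≠ o ∧ j = i) := by
      by_cases hi : i = o
      · exact ⟨l₀, Or.inl ⟨hi, hl₀⟩⟩
      · exact ⟨i, Or.inr ⟨hi, rfl⟩⟩
    have h' := F.diff_const j.1 o.1 (by rw [hflat _ j.2, hflat _ o.2])
      (isClassFunction_of_isIrr (M i).2) hc
    change Cfsg.classInner (τ j) _ = 0 at h'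
    rw [hinner j (M i)] at h'
    rcases hji with ⟨rfl, hj⟩ | ⟨hi, rfl⟩
    · rw [if_neg (fun e => hj (hMinj e)), if_pos rfl] at h'
      simp [hε0] at h'
    · rw [if_pos rfl, if_neg (fun e => hi (hMinj e).symm)] at h'
      simp [hε0] at h'
  have hnM : ∀ i, n (M i) = 0 := by
    intro i
    by_contra hn0
    obtain ⟨ψ, hψ, hc⟩ := hn (M i) hn0
    rcases F.classify (M i).2 hψ hc with e | e | ⟨e, -⟩
    · exact hnc i 1 fun v _ _ => congrFun e v
    · exact hnc i 0 fun v hv' hv1 => by rw [e]; exact F.stb_kernel hv' hv1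
    · exact hnc i 1 e
  -- all exceptional characters agree at `1` and `t`
  have hτ0 : ∀ i, τ i t = 0 := by
    intro i
    simp only [τ]
    rw [indFun_eq_of_TI N (H : Set G) hTI (hcl i) (hout i) (t := ⟨t, D.hHa htH⟩) htH
      (fun e => ht1 (congrArg Subtype.val e)), Pi.sub_apply, hval _ t htz ht1, hval _ t htz ht1,
      if_pos i.2, if_pos o.2, sub_self]
  have heq : ∀ i, Y (M i) = Y (M o) ∧ X (M i) = X (M o) := by
    intro i
    constructor
    · have h' : τ i 1 = 0 := by simp only [τ]; rw [indFun_one, hone0, mul_zero]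
      rw [hτ i, Pi.smul_apply, Pi.sub_apply, smul_eq_mul] at h'
      have h'' : (M i : G → ℂ) 1 = (M o : G → ℂ) 1 :=
        sub_eq_zero.mp ((mul_eq_zero.mp h').resolve_left hε0)
      rw [hY, hY] at h''
      exact_mod_cast h''
    · have h' := hτ0 i
      rw [hτ i, Pi.smul_apply, Pi.sub_apply, smul_eq_mul] at h'
      have h'' : (M i : G → ℂ) t = (M o : G → ℂ) t :=
        sub_eq_zero.mp ((mul_eq_zero.mp h').resolve_left hε0)
      rw [hX, hX] at h''
      exact_mod_cast h''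
  obtain ⟨c, hc⟩ : ∃ c : ℕ, (M1 (M o) : ℤ) = ((q : ℤ) + 1) * c + ε := by
    refine ⟨m (M o) l₀.1, ?_⟩
    have hmc : ∀ l ∈ S1, (m (M o) l : ℤ) =
        (m (M o) l₀.1 : ℤ) + if l = o.1 then ε else 0 := by
      intro l hl
      have e1 := hdiff (M o) ⟨l, (Finset.mem_filter.mp hl).2⟩
      have e2 := hdiff (M o) l₀
      rw [if_neg (fun e => hl₀ (hMinj e)), if_pos rfl] at e2
      by_cases hlo : l = o.1
      · subst hlo
        rw [if_pos rfl]
        have : (m (M o) o.1 : ℂ) = (m (M o) l₀.1 : ℂ) + (ε : ℂ) := by linear_combination -e2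
        exact_mod_cast this
      · rw [if_neg (fun e => hlo (congrArg Subtype.val (hMinj e))), if_pos rfl] at e1
        rw [if_neg hlo, add_zero]
        have : (m (M o) l : ℂ) = (m (M o) l₀.1 : ℂ) := by linear_combination e1 - e2
        exact_mod_cast this
    simp only [M1]
    push_cast
    rw [Finset.sum_congr rfl hmc, Finset.sum_add_distrib, Finset.sum_const, hs, Finset.sum_ite_eq',
      if_pos hi₀, nsmul_eq_mul]
    push_cast
    rfl
  -- the partition of the characters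
  set one : Cfsg.IrrCharacter G := irrOne with hone
  set St : Cfsg.IrrCharacter G := ⟨stb G Ω, F.stb_irr⟩ with hSt
  have hh2 : 2 ≤ h := by
    have := F.hlt
    omega
  have hone_ne : one ≠ St := fun e => by
    have h' : (one : G → ℂ) 1 = (St : G → ℂ) 1 := by rw [e]
    rw [irrOne_apply, show (St : G → ℂ) 1 = stb G Ω 1 from rfl, F.stb_one, ← hhd] at h'
    have : (1 : ℕ) = h := by exact_mod_cast h'
    omega
  have hnval : ∀ (χ : Cfsg.IrrCharacter G) (c : ℂ), (∀ v ∈ H, v ≠ 1 → (χ : G → ℂ) v = c) →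
      (χ : G → ℂ) 1 + ((h : ℂ) - 1) * c = (h : ℂ) * n χ := by
    intro χ c hc
    rw [← hnH χ, ← Finset.add_sum_erase _ _ (Finset.mem_univ (1 : H)), OneMemClass.coe_one,
      Finset.sum_congr rfl (s₁ := Finset.univ.erase (1 : H)) (g := fun _ => c)
        (fun v hv' => hc v v.2 fun e => Finset.ne_of_mem_erase hv' (Subtype.ext e)),
      Finset.sum_const, Finset.card_erase_of_mem (Finset.mem_univ _), Finset.card_univ,
      ← Nat.card_eq_fintype_card, nsmul_eq_mul, Nat.cast_sub (show 1 ≤ Nat.card H by omega),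
      Nat.cast_one]
  have hn_one : n one = 1 ∧ Y one = 1 ∧ X one = 1 := by
    refine ⟨?_, ?_, ?_⟩
    · have h' := hnval one 1 fun v _ _ => irrOne_apply v
      rw [irrOne_apply] at h'
      have h'' : (h : ℂ) * (n one : ℂ) = (h : ℂ) * ((1 : ℕ) : ℂ) := by
        push_cast; linear_combination -h'
      exact_mod_cast mul_left_cancel₀ (by exact_mod_cast (by omega : h ≠ 0)) h''
    · have h' := hY one
      rw [irrOne_apply] at h'
      exact_mod_cast h'.symm
    · have h' := hX one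
      rw [irrOne_apply] at h'
      exact_mod_cast h'.symm
  have hn_St : n St = 1 ∧ Y St = h ∧ X St = 0 := by
    refine ⟨?_, ?_, ?_⟩
    · have h' := hnval St 0 fun v hv' hv1 => F.stb_kernel hv' hv1
      rw [show (St : G → ℂ) 1 = stb G Ω 1 from rfl, F.stb_one, ← hhd] at h'
      have h'' : (h : ℂ) * (n St : ℂ) = (h : ℂ) * ((1 : ℕ) : ℂ) := by
        push_cast; linear_combination -h'
      exact_mod_cast mul_left_cancel₀ (by exact_mod_cast (by omega : h ≠ 0)) h''
    · have h' := hY St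
      rw [show (St : G → ℂ) 1 = stb G Ω 1 from rfl, F.stb_one, ← hhd] at h'
      exact_mod_cast h'.symm
    · have h' := hX St
      rw [show (St : G → ℂ) t = stb G Ω t from rfl, F.stb_kernel htH ht1] at h'
      exact_mod_cast h'.symm
  set P := ((Finset.univ.filter fun χ : Cfsg.IrrCharacter G => n χ ≠ 0).erase one).erase St with hP
  have hPval : ∀ χ ∈ P, n χ = 2 ∧ Y χ = (h : ℤ) + 1 ∧ X χ = 1 := by
    intro χ hχ
    obtain ⟨hne1, hχ'⟩ := Finset.mem_erase.mp hχ
    obtain ⟨hne2, hχ''⟩ := Finset.mem_erase.mp hχ'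
    obtain ⟨ψ, hψ, hc'⟩ := hn χ (Finset.mem_filter.mp hχ'').2
    rcases F.classify χ.2 hψ hc' with e | e | ⟨e, e'⟩
    · exact absurd (Subtype.ext (e.trans (funext fun g => (irrOne_apply g).symm))) hne2
    · exact absurd (Subtype.ext e) hne1
    · rw [← hhd] at e'
      refine ⟨?_, ?_, ?_⟩
      · have h' := hnval χ 1 e
        rw [e'] at h'
        have h'' : (h : ℂ) * (n χ : ℂ) = (h : ℂ) * ((2 : ℕ) : ℂ) := by
          push_cast; linear_combination -h'
        exact_mod_cast mul_left_cancel₀ (by exact_mod_cast (by omega : h ≠ 0)) h''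
      · have h' := hY χ
        rw [e'] at h'
        exact_mod_cast h'.symm
      · have h' := hX χ
        rw [e t htH ht1] at h'
        exact_mod_cast h'.symm
  set R := Finset.univ.filter
    (fun χ : Cfsg.IrrCharacter G => n χ = 0 ∧ χ ∉ Finset.univ.image M) with hR
  have hsplit : ∀ f : Cfsg.IrrCharacter G → ℤ,
      ∑ χ, f χ = f one + f St + ∑ χ ∈ P, f χ + ∑ i, f (M i) + ∑ χ ∈ R, f χ := by
    intro f
    have hm1 : one ∈ Finset.univ.filter fun χ : Cfsg.IrrCharacter G => n χ ≠ 0 :=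
      Finset.mem_filter.mpr ⟨Finset.mem_univ _, by rw [hn_one.1]; omega⟩
    have hm2 : St ∈ (Finset.univ.filter fun χ : Cfsg.IrrCharacter G => n χ ≠ 0).erase one :=
      Finset.mem_erase.mpr ⟨hone_ne.symm, Finset.mem_filter.mpr
        ⟨Finset.mem_univ _, by rw [hn_St.1]; omega⟩⟩
    have himg : (Finset.univ.filter fun χ : Cfsg.IrrCharacter G => n χ = 0) =
        Finset.univ.image M ∪ R := by
      ext χ
      simp only [hR, Finset.mem_filter, Finset.mem_univ, true_and, Finset.mem_union]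
      constructor
      · intro h'
        by_cases hχ : χ ∈ Finset.univ.image M
        · exact Or.inl hχ
        · exact Or.inr ⟨h', hχ⟩
      · rintro (h' | ⟨h', -⟩)
        · obtain ⟨i, -, rfl⟩ := Finset.mem_image.mp h'
          exact hnM i
        · exact h'
    rw [← Finset.sum_filter_add_sum_filter_not Finset.univ
      (fun χ : Cfsg.IrrCharacter G => n χ ≠ 0) f,
      ← Finset.add_sum_erase _ f hm1, ← Finset.add_sum_erase _ f hm2, ← hP]
    simp only [not_not]
    rw [himg, Finset.sum_union (Finset.disjoint_left.mpr fun χ h' h'' =>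
      (Finset.mem_filter.mp h'').2.2 h'), Finset.sum_image fun i _ j _ e => hMinj e]
    ring
  have hPcard : P.card = p := by
    have h' := hnY
    rw [hsplit, hn_one.1, hn_one.2.1, hn_St.1, hn_St.2.1,
      Finset.sum_congr rfl (g := fun _ => ((h : ℤ) + 1) * 2) (fun χ hχ => by
        obtain ⟨e1, e2, -⟩ := hPval χ hχ; rw [e1, e2]; push_cast; rfl),
      Finset.sum_eq_zero (s := Finset.univ) (fun i _ => by rw [hnM i]; simp),
      Finset.sum_eq_zero (s := R) (fun χ hχ => by rw [(Finset.mem_filter.mp hχ).2.1]; simp),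
      Finset.sum_const, nsmul_eq_mul] at h'
    have hdp : (d : ℤ) = 2 * p + 1 := by
      have : d = 2 * p + 1 := by omega
      exact_mod_cast this
    rw [hdp] at h'
    have h'' : ((h : ℤ) + 1) * (P.card : ℤ) = ((h : ℤ) + 1) * p := by
      push_cast at h'
      linarith
    exact_mod_cast mul_left_cancel₀ (by positivity) h''
  let mc : Cfsg.IrrCharacter G → ℕ := fun χ => m χ o.1
  have hRM1 : ∀ χ ∈ R, (M1 χ : ℤ) = ((q : ℤ) + 1) * mc χ := by
    intro χ hχ
    have hnot : ∀ i, M i ≠ χ := fun i e => (Finset.mem_filter.mp hχ).2.2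
      (Finset.mem_image.mpr ⟨i, Finset.mem_univ _, e⟩)
    simp only [M1, mc]
    push_cast
    rw [Finset.sum_congr rfl (g := fun _ => (m χ o.1 : ℤ)) (fun l hl => by
      have e1 := hdiff χ ⟨l, (Finset.mem_filter.mp hl).2⟩
      rw [if_neg (hnot _), if_neg (hnot _), sub_self, mul_zero, sub_eq_zero] at e1
      exact_mod_cast e1), Finset.sum_const, hs, nsmul_eq_mul]
    push_cast
    rfl
  have hqp : (q : ℤ) = 2 * p + 2 := by exact_mod_cast hp
  have hdp : (d : ℤ) = 2 * p + 1 := by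
    have : d = 2 * p + 1 := by omega
    exact_mod_cast this
  have hhq : (h : ℤ) = (q : ℤ) ^ 3 := by exact_mod_cast hh
  -- first: the combination `Y + d X`
  obtain ⟨Smm, hSmm⟩ : ∃ S : ℤ, S = ∑ χ ∈ R, (mc χ : ℤ) ^ 2 := ⟨_, rfl⟩
  have hstep1 : (M1 (M o) : ℤ) ^ 2 + ((q : ℤ) + 1) * Smm = ((q : ℤ) + 1) * p + 1 := by
    have hsum : ∑ χ, (Y χ + d * X χ) ^ 2 = (Nat.card G : ℤ) + (d : ℤ) ^ 2 * h := by
      rw [Finset.sum_congr rfl (g := fun χ => Y χ * Y χ + 2 * (d : ℤ) * (Y χ * X χ) +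
        (d : ℤ) ^ 2 * (X χ * X χ)) (fun χ _ => by ring), Finset.sum_add_distrib,
        Finset.sum_add_distrib, ← Finset.mul_sum, ← Finset.mul_sum, hYY, hXY, hXX]
      ring
    rw [hsplit, hn_one.2.1, hn_one.2.2, hn_St.2.1, hn_St.2.2,
      Finset.sum_congr rfl (s₁ := P) (g := fun _ => ((h : ℤ) + 1 + d) ^ 2) (fun χ hχ => by
        obtain ⟨-, e2, e3⟩ := hPval χ hχ; rw [e2, e3, mul_one]),
      Finset.sum_congr rfl (s₁ := Finset.univ) (g := fun _ => (q : ℤ) ^ 2 * (d : ℤ) ^ 2 *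
        (M1 (M o) : ℤ) ^ 2) (fun i _ => by
        rw [(heq i).1, (heq i).2, hYX, hnM o]; push_cast; ring),
      Finset.sum_congr rfl (s₁ := R) (g := fun χ => (q : ℤ) ^ 2 * (d : ℤ) ^ 2 *
        ((q : ℤ) + 1) ^ 2 * (mc χ : ℤ) ^ 2) (fun χ hχ => by
        rw [hYX, (Finset.mem_filter.mp hχ).2.1, hRM1 χ hχ]; push_cast; ring),
      Finset.sum_const, Finset.sum_const, Finset.card_univ, hιcard, hPcard, ← Finset.mul_sum,
      ← hSmm, nsmul_eq_mul, nsmul_eq_mul, hcardG] at hsum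
    push_cast at hsum
    rw [hdp, hhq, hqp] at hsum
    rw [hqp]
    refine mul_left_cancel₀ (show ((2 * (p : ℤ) + 2) ^ 2 * (2 * (p : ℤ) + 1) ^ 2 *
      (2 * (p : ℤ) + 3)) ≠ 0 by positivity) ?_
    linear_combination hsum
  have hSmm0 : 0 ≤ Smm := hSmm ▸ Finset.sum_nonneg fun _ _ => sq_nonneg _
  have hp1 : (1 : ℤ) ≤ p := by
    have : 1 ≤ p := by omega
    exact_mod_cast this
  have hc0 : c = 0 := by
    by_contra hc0
    have hc1 : (1 : ℤ) ≤ c := by exact_mod_cast Nat.one_le_iff_ne_zero.mpr hc0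
    rw [hc, hqp] at hstep1
    have : 2 * (p : ℤ) + 2 ≤ (2 * (p : ℤ) + 2 + 1) * c + ε := by
      rcases hε with e | e <;> rw [e] <;> nlinarith
    nlinarith
  obtain rfl : ε = 1 := by
    refine hε.resolve_right fun e => ?_
    rw [hc0, e] at hc
    push_cast at hc
    omega
  have hM1o : (M1 (M o) : ℤ) = 1 := by rw [hc, hc0]; simp
  have hSp : Smm = p := by
    rw [hM1o] at hstep1
    refine mul_left_cancel₀ (show (q : ℤ) + 1 ≠ 0 by positivity) ?_
    linarith
  -- the exceptional characters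
  obtain ⟨aa, haa⟩ : ∃ aa : ℕ, aa = A (M o) := ⟨_, rfl⟩
  have hYo : Y (M o) = (d : ℤ) * (1 + aa) := by
    simp only [Y]
    rw [hnM o, hM1o, haa]
    push_cast
    ring
  have hXo : X (M o) = (d : ℤ) - aa := by
    simp only [X]
    rw [hnM o, hM1o, haa]
    push_cast
    ring
  have hcolt : 1 + (p : ℤ) + ((q : ℤ) + 1) * ((d : ℤ) - aa) ^ 2 + ∑ χ ∈ R, X χ * X χ = h := by
    rw [← hXX, hsplit, hn_one.2.2, hn_St.2.2,
      Finset.sum_congr rfl (s₁ := P) (g := fun _ => (1 : ℤ)) (fun χ hχ => by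
        rw [(hPval χ hχ).2.2, one_mul]),
      Finset.sum_congr rfl (s₁ := Finset.univ) (g := fun _ => ((d : ℤ) - aa) ^ 2) (fun i _ => by
        rw [(heq i).2, hXo, pow_two]),
      Finset.sum_const, Finset.sum_const, Finset.card_univ, hιcard, hPcard, nsmul_eq_mul,
      nsmul_eq_mul]
    push_cast
    ring
  have hrest : 0 ≤ ∑ χ ∈ R, X χ * X χ := Finset.sum_nonneg fun χ _ => mul_self_nonneg _
  have haa2 : (aa : ℤ) ≤ 2 * q - 2 := by
    by_contra hlt
    push Not at hlt
    have h' : (q : ℤ) ≤ (aa : ℤ) - d := by linarith [hdp, hqp]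
    have h2 : (q : ℤ) ^ 2 ≤ ((d : ℤ) - aa) ^ 2 := by nlinarith
    have h3 : ((q : ℤ) + 1) * (q : ℤ) ^ 2 ≤ ((q : ℤ) + 1) * ((d : ℤ) - aa) ^ 2 :=
      mul_le_mul_of_nonneg_left h2 (by positivity)
    nlinarith
  obtain ⟨NN, hNN⟩ : ∃ NN : ℕ, NN = ∑ l ∈ S2, m (M o) l ^ 2 := ⟨_, rfl⟩
  have hbound : ((h : ℤ) + 1) * NN ≤ (d : ℤ) * (1 + aa) ^ 2 := by
    have h' := F.norm_bound (M o).2 (Y := Y (M o)) (hY _) (h0 (M o) (hnM o))
    have hsq : ∑ l, (m (M o) l : ℤ) ^ 2 = 1 + NN := by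
      rw [← Finset.sum_filter_add_sum_filter_not Finset.univ (fun l : Rel G a H => Flat l), ← hS1,
        ← hS2, hNN]
      push_cast
      congr 1
      have hM1' : ∑ l ∈ S1, m (M o) l = 1 := by exact_mod_cast hM1o
      obtain ⟨l, hl, hl0⟩ : ∃ l ∈ S1, m (M o) l ≠ 0 :=
        Finset.exists_ne_zero_of_sum_ne_zero (by rw [hM1']; omega)
      have hle := Finset.add_sum_erase S1 (fun l => m (M o) l) hl
      rw [hM1'] at hle
      have hrest0 : ∀ l' ∈ S1.erase l, m (M o) l' = 0 :=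
        Finset.sum_eq_zero_iff.mp (by omega)
      rw [← Finset.add_sum_erase S1 _ hl, Finset.sum_eq_zero fun l' hl' => by
        rw [hrest0 l' hl']; simp]
      have : m (M o) l = 1 := by omega
      rw [this]; simp
    rw [hsq, hYo, hcardG, ← hhd, ← hdd] at h'
    have hd0 : (0 : ℤ) < d := by linarith
    have hh0 : (0 : ℤ) < h := by exact_mod_cast (by omega : 0 < h)
    have h2 : (h : ℤ) * ((d : ℤ) * (((h : ℤ) + 1) * NN)) ≤ h * (d * ((d : ℤ) * (1 + aa) ^ 2)) := by
      linarith [h']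
    exact le_of_mul_le_mul_left (le_of_mul_le_mul_left h2 hh0) hd0
  -- a single character in the second family
  obtain ⟨l₂, hl₂, hl₂q⟩ : ∃ l₂ ∈ S2, dd b l₂ = q := by
    by_contra hno
    push Not at hno
    have hhalf : ∀ l ∈ S2, 2 * dd b l ≤ q := by
      intro l hl
      obtain ⟨i, hi⟩ := hpow l
      have hle : dd b l ^ 2 ≤ q ^ 2 :=
        hbig ▸ Finset.single_le_sum (f := fun l => dd b l ^ 2) (fun _ _ => Nat.zero_le _) hl
      have hle' := Nat.pow_le_pow_iff_left two_ne_zero |>.mp hle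
      rw [hi, hq, Nat.pow_le_pow_iff_right one_lt_two] at hle'
      have : i ≠ e := fun h' => hno l hl (by rw [hi, h', hq])
      rw [hi, hq, ← pow_succ']
      exact Nat.pow_le_pow_right two_pos (by omega)
    have h2a : 2 * aa ≤ q * NN := by
      rw [haa, hNN]
      simp only [A]
      rw [Finset.mul_sum, Finset.mul_sum]
      refine Finset.sum_le_sum fun l hl => ?_
      rcases Nat.eq_zero_or_pos (m (M o) l) with h0' | h0'
      · simp [h0']
      · calc 2 * (m (M o) l * dd b l) = m (M o) l * (2 * dd b l) := by ring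
          _ ≤ m (M o) l ^ 2 * q := Nat.mul_le_mul (Nat.le_self_pow two_ne_zero _) (hhalf l hl)
          _ = q * m (M o) l ^ 2 := mul_comm _ _
    have h2a' : 2 * (aa : ℤ) ≤ (q : ℤ) * NN := by exact_mod_cast h2a
    have hq4 : (4 : ℤ) ≤ q := by linarith
    have hd' : (d : ℤ) = (q : ℤ) - 1 := by linarith
    rw [hd', hhq] at hbound
    rcases (show NN = 0 ∨ NN = 1 ∨ NN = 2 ∨ NN = 3 ∨ 4 ≤ NN by omega) with
      e' | e' | e' | e' | e'
    · have haa0 : aa = 0 := by rw [e'] at h2a; omega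
      refine hnc o ((M o : G → ℂ) 1) fun v _ _ => ?_
      have hker : t ∈ CfsgLib.CharNormal.charKer (isCharacter_of_isIrr (M o).2) := by
        show (M o : G → ℂ) t = (M o : G → ℂ) 1
        rw [hY, hX, hYo, hXo, haa0]
        simp
      have htop := ((CfsgLib.CharNormal.charKer_normal
        (isCharacter_of_isIrr (M o).2)).eq_bot_or_eq_top).resolve_left fun e2 => ht1 (by
          rwa [e2, Subgroup.mem_bot] at hker)
      exact CfsgLib.CharNormal.mem_charKer.mp (htop ▸ Subgroup.mem_top v)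
    all_goals exact (small_false hq4 (Nat.cast_nonneg aa) haa2 h2a' (by exact_mod_cast (show 1 ≤ NN by omega)) hbound)
  have hS2one : S2 = {l₂} := by
    refine Finset.eq_singleton_iff_unique_mem.mpr ⟨hl₂, fun l hl => ?_⟩
    by_contra hne'
    have h' := Finset.sum_le_sum_of_subset_of_nonneg (f := fun l => dd b l ^ 2)
      (show {l₂, l} ⊆ S2 by simp [Finset.insert_subset_iff, hl, hl₂]) (fun i _ _ => Nat.zero_le _)
    rw [Finset.sum_pair (Ne.symm hne'), hl₂q, hbig] at h'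
    have h'' : 0 < dd b l ^ 2 := pow_pos (F.th_one l).2 2
    omega
  have hA : ∀ χ, (A χ : ℤ) = (q : ℤ) * m χ l₂ := fun χ => by
    simp only [A, hS2one, Finset.sum_singleton, hl₂q]
    push_cast
    ring
  have haq : (aa : ℤ) = q := by
    have h' := hA (M o)
    rw [← haa] at h'
    rcases Nat.lt_trichotomy (m (M o) l₂) 1 with hk | hk | hk
    · exfalso
      have haa0 : aa = 0 := by
        have : (aa : ℤ) = 0 := by rw [h', show m (M o) l₂ = 0 by omega]; simp
        exact_mod_cast this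
      refine hnc o ((M o : G → ℂ) 1) fun v _ _ => ?_
      have hker : t ∈ CfsgLib.CharNormal.charKer (isCharacter_of_isIrr (M o).2) := by
        show (M o : G → ℂ) t = (M o : G → ℂ) 1
        rw [hY, hX, hYo, hXo, haa0]
        simp
      have htop := ((CfsgLib.CharNormal.charKer_normal
        (isCharacter_of_isIrr (M o).2)).eq_bot_or_eq_top).resolve_left fun e2 => ht1 (by
          rwa [e2, Subgroup.mem_bot] at hker)
      exact CfsgLib.CharNormal.mem_charKer.mp (htop ▸ Subgroup.mem_top v)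
    · rw [h', hk]; simp
    · exfalso
      have hk2 : (2 : ℤ) ≤ m (M o) l₂ := by exact_mod_cast hk
      have hk3 := mul_le_mul_of_nonneg_left hk2 (show (0 : ℤ) ≤ q by positivity)
      linarith
  have hd' : (d : ℤ) = (q : ℤ) - 1 := by linarith
  rw [haq, hd'] at hcolt
  have hRY : ∀ χ ∈ R, Y χ = (d : ℤ) * (((q : ℤ) + 1) * mc χ + q * m χ l₂) := fun χ hχ => by
    simp only [Y]
    rw [(Finset.mem_filter.mp hχ).2.1, hRM1 χ hχ, hA]
    push_cast
    ring
  have hRX : ∀ χ ∈ R, X χ = (d : ℤ) * (((q : ℤ) + 1) * mc χ) - q * m χ l₂ := fun χ hχ => by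
    simp only [X]
    rw [(Finset.mem_filter.mp hχ).2.1, hRM1 χ hχ, hA]
    push_cast
    ring
  obtain ⟨Smk, hSmk⟩ : ∃ S : ℤ, S = ∑ χ ∈ R, (mc χ : ℤ) * m χ l₂ := ⟨_, rfl⟩
  obtain ⟨Skk, hSkk⟩ : ∃ S : ℤ, S = ∑ χ ∈ R, (m χ l₂ : ℤ) ^ 2 := ⟨_, rfl⟩
  rw [Finset.sum_congr rfl (g := fun χ => (d : ℤ) ^ 2 * ((q : ℤ) + 1) ^ 2 * (mc χ : ℤ) ^ 2 -
    2 * (d : ℤ) * ((q : ℤ) + 1) * q * ((mc χ : ℤ) * m χ l₂) + (q : ℤ) ^ 2 * (m χ l₂ : ℤ) ^ 2)
    (fun χ hχ => by rw [hRX χ hχ]; ring), Finset.sum_add_distrib, Finset.sum_sub_distrib,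
    ← Finset.mul_sum, ← Finset.mul_sum, ← Finset.mul_sum, ← hSmm, ← hSmk, ← hSkk] at hcolt
  have hcol1 := hXY
  rw [hsplit, hn_one.2.1, hn_one.2.2, hn_St.2.2,
    Finset.sum_congr rfl (s₁ := P) (g := fun _ => (h : ℤ) + 1) (fun χ hχ => by
      obtain ⟨-, e2, e3⟩ := hPval χ hχ; rw [e2, e3, mul_one]),
    Finset.sum_congr rfl (s₁ := Finset.univ) (g := fun _ => (d : ℤ) * (1 + q) * ((d : ℤ) - q))
      (fun i _ => by rw [(heq i).1, (heq i).2, hYo, hXo, haq]),
    Finset.sum_congr rfl (s₁ := R) (g := fun χ => (d : ℤ) * ((d : ℤ) * ((q : ℤ) + 1) ^ 2 *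
      (mc χ : ℤ) ^ 2 + ((d : ℤ) - 1) * ((q : ℤ) + 1) * q * ((mc χ : ℤ) * m χ l₂) -
      (q : ℤ) ^ 2 * (m χ l₂ : ℤ) ^ 2)) (fun χ hχ => by rw [hRY χ hχ, hRX χ hχ]; ring),
    Finset.sum_const, Finset.sum_const, Finset.card_univ, hιcard, hPcard, ← Finset.mul_sum,
    Finset.sum_sub_distrib, Finset.sum_add_distrib, ← Finset.mul_sum, ← Finset.mul_sum,
    ← Finset.mul_sum, ← hSmm, ← hSmk, ← hSkk, nsmul_eq_mul, nsmul_eq_mul] at hcol1
  push_cast at hcol1
  rw [hSp, hd', hhq] at hcolt hcol1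
  have hmk : Smk = (p : ℤ) * q - 1 := by
    rw [hqp] at hcolt hcol1 ⊢
    refine mul_left_cancel₀ (show ((2 * (p : ℤ) + 2 - 1) * (2 * (p : ℤ) + 2) ^ 2 *
      (2 * (p : ℤ) + 3)) ≠ 0 from mul_ne_zero (mul_ne_zero (by linarith) (by positivity))
        (by positivity)) ?_
    linear_combination (-1 : ℤ) * hcol1 - (2 * (p : ℤ) + 2 - 1) * hcolt
  have hkk : Skk = (p : ℤ) * (q : ℤ) ^ 2 - q := by
    rw [hmk, hqp] at hcolt
    rw [hqp]
    refine mul_left_cancel₀ (show ((2 * (p : ℤ) + 2) ^ 2) ≠ 0 by positivity) ?_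
    linear_combination hcolt
  refine cube_false R hq he hp mc (fun χ => m χ l₂) (fun χ hχ => ?_) (hSmm ▸ hSp) (hSmk ▸ hmk)
    (hSkk ▸ hkk)
  have hdeg : (χ : G → ℂ) 1 = ((d * ((q + 1) * mc χ + q * m χ l₂) : ℕ) : ℂ) := by
    rw [hY, hRY χ hχ]; push_cast; ring
  have hdvd := degree_dvd_card χ.2 hdeg
  rw [← card_group D.hZ D.hab, ← D.hHcard, Nat.add_sub_cancel] at hdvd
  rw [← hh, mul_comm h]
  exact Nat.dvd_of_mul_dvd_mul_left (by omega : 0 < d) (hdvd.trans (dvd_of_eq (mul_comm _ _)))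

end CfsgLib.ZassenhausSimple.Suz
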