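import Mathlib

/-!
# The arithmetic of the tori of a Zassenhaus group on `q ^ 2 + 1` points
-/

set_option autoImplicit false

namespace CfsgLib.ZassenhausSimple.Suz

/-- A square that is eight times a power of two comes from an odd exponent. -/
theorem odd_of_sq_eq {n : ℕ} {x : ℤ} (h : x ^ 2 = 8 * 2 ^ n) : Odd n := by
  have h1 : x.natAbs ^ 2 = 2 ^ (n + 3) := by
    have h2 : ((x.natAbs ^ 2 : ℕ) : ℤ) = ((2 ^ (n + 3) : ℕ) : ℤ) := by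
      push_cast
      rw [sq_abs, h]
      ring
    exact_mod_cast h2
  obtain ⟨j, -, hj⟩ := (Nat.dvd_prime_pow Nat.prime_two).mp (h1 ▸ dvd_pow_self x.natAbs two_ne_zero)
  rw [hj, ← pow_mul] at h1
  have := Nat.pow_right_injective le_rfl h1
  exact Nat.odd_iff.mpr (by omega)

/-- The case of two tori with Weyl groups of order four. -/
theorem pair_arith {n q : ℕ} (hq : q = 2 ^ n) (hn : 2 ≤ n) {c₁ c₂ : ℕ} (h5₁ : 5 ≤ c₁) (h5₂ : 5 ≤ c₂)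
    (hle : c₂ ≤ c₁) (hco : Nat.Coprime c₁ c₂) (hd₁ : c₁ ∣ q ^ 2 + 1) (hd₂ : c₂ ∣ q ^ 2 + 1)
    (hsum : c₁ + c₂ = 2 * q + 2)
    (hbound : ((c₁ : ℚ) - 1) / (4 * c₁) + ((c₂ : ℚ) - 1) / (4 * c₂) ≤
      1 / 2 - ((q : ℚ) + 1) / (2 * ((q : ℚ) ^ 2 + 1)))
    (hgap : ((c₁ : ℚ) - 1) / (4 * c₁) + ((c₂ : ℚ) - 1) / (4 * c₂) <
      1 / 2 - ((q : ℚ) + 1) / (2 * ((q : ℚ) ^ 2 + 1)) →
      ∃ c', 0 < c' ∧ c' ∣ q ^ 2 + 1 ∧ Nat.Coprime c' c₁ ∧ Nat.Coprime c' c₂ ∧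
        ((c₁ : ℚ) - 1) / (4 * c₁) + ((c₂ : ℚ) - 1) / (4 * c₂) + 1 / (c' : ℚ) ≤
          1 / 2 - ((q : ℚ) + 1) / (2 * ((q : ℚ) ^ 2 + 1))) : Odd n := by
  have hq4 : 4 ≤ q := hq ▸ (by calc 4 = 2 ^ 2 := rfl
                                    _ ≤ 2 ^ n := Nat.pow_le_pow_right two_pos hn)
  obtain ⟨k, hk⟩ := hco.mul_dvd_of_dvd_of_dvd hd₁ hd₂
  have h1 : (0 : ℚ) < c₁ := by exact_mod_cast (by omega : 0 < c₁)
  have h2 : (0 : ℚ) < c₂ := by exact_mod_cast (by omega : 0 < c₂)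
  have hkQ : (q : ℚ) ^ 2 + 1 = (c₁ : ℚ) * c₂ * k := by exact_mod_cast hk
  have hsQ : (c₁ : ℚ) + c₂ = 2 * q + 2 := by exact_mod_cast hsum
  have hq0 : (0 : ℚ) < (q : ℚ) ^ 2 + 1 := by positivity
  have hdiff : ((c₁ : ℚ) - 1) / (4 * c₁) + ((c₂ : ℚ) - 1) / (4 * c₂) =
      1 / 2 - (k : ℚ) * ((q : ℚ) + 1) / (2 * ((q : ℚ) ^ 2 + 1)) := by
    rw [hkQ]
    have : (k : ℚ) ≠ 0 := by
      intro h
      rw [h, mul_zero] at hkQ
      exact hq0.ne' hkQ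
    field_simp
    linear_combination (-2 : ℚ) * hsQ
  rw [hdiff] at hgap
  have hk0 : 0 < k := Nat.pos_of_ne_zero fun h => by rw [h, mul_zero] at hk; omega
  by_cases hk1 : k = 1
  · subst hk1
    rw [mul_one] at hk
    refine odd_of_sq_eq (n := n) (x := (c₁ : ℤ) - c₂) ?_
    have hkZ : (q : ℤ) ^ 2 + 1 = (c₁ : ℤ) * c₂ := by exact_mod_cast hk
    have hsZ : (c₁ : ℤ) + c₂ = 2 * q + 2 := by exact_mod_cast hsum
    have hqZ : (q : ℤ) = 2 ^ n := by exact_mod_cast hq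
    rw [← hqZ]
    linear_combination ((c₁ : ℤ) + c₂ + (2 * q + 2)) * hsZ + 4 * hkZ
  exfalso
  obtain ⟨c', hc'0, hc'd, hc'1, hc'2, hc'le⟩ := hgap (by
    have : (2 : ℚ) ≤ k := by exact_mod_cast (by omega : 2 ≤ k)
    have hpos : (0 : ℚ) < ((q : ℚ) + 1) / (2 * ((q : ℚ) ^ 2 + 1)) := by positivity
    rw [mul_div_assoc]
    nlinarith)
  have hc'k : c' ≤ k := by
    refine Nat.le_of_dvd hk0 ?_
    exact ((hc'1.mul_right hc'2)).dvd_of_dvd_mul_left (hk ▸ hc'd)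
  have hkey : 2 * (q ^ 2 + 1) ≤ (q + 1) * k ^ 2 := by
    have hc'Q : (0 : ℚ) < c' := by exact_mod_cast hc'0
    have hk' : (c' : ℚ) ≤ k := by exact_mod_cast hc'k
    have h3 : (1 : ℚ) / k ≤ 1 / c' := by gcongr
    have h4 : (1 : ℚ) / k ≤ ((k : ℚ) - 1) * ((q : ℚ) + 1) / (2 * ((q : ℚ) ^ 2 + 1)) := by
      rw [sub_mul, sub_div, one_mul]
      linarith
    rw [div_le_div_iff₀ (by exact_mod_cast hk0) (by positivity)] at h4
    have h5 : (2 : ℚ) * ((q : ℚ) ^ 2 + 1) ≤ ((q : ℚ) + 1) * (k : ℚ) ^ 2 := by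
      nlinarith [mul_nonneg (Nat.cast_nonneg (α := ℚ) k) (by positivity : (0 : ℚ) ≤ (q : ℚ) + 1)]
    exact_mod_cast h5
  have hc1 : c₁ ≤ c₂ ^ 2 := by
    have hZ : (c₁ : ℤ) ∣ ((c₂ : ℤ) - 2) ^ 2 + 4 := by
      have hsZ : (c₁ : ℤ) + c₂ = 2 * q + 2 := by exact_mod_cast hsum
      have h4 : (c₁ : ℤ) ∣ 4 * ((q : ℤ) ^ 2 + 1) :=
        Dvd.dvd.mul_left (by exact_mod_cast hd₁) _
      have h5 : ((c₂ : ℤ) - 2) ^ 2 + 4 = 4 * ((q : ℤ) ^ 2 + 1) - c₁ * (c₁ + 2 * c₂ - 4) := by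
        linear_combination ((c₁ : ℤ) + c₂ - 2 + 2 * q) * hsZ
      rw [h5]
      exact dvd_sub h4 (dvd_mul_right _ _)
    have := Int.le_of_dvd (by positivity) hZ
    have h5' : (5 : ℤ) ≤ c₂ := by exact_mod_cast h5₂
    have : (c₁ : ℤ) ≤ (c₂ : ℤ) ^ 2 := by nlinarith
    exact_mod_cast this
  have h6 : 2 * (q ^ 2 + 1) * c₁ ^ 3 ≤ (q + 1) * (q ^ 2 + 1) ^ 2 :=
    calc 2 * (q ^ 2 + 1) * c₁ ^ 3 ≤ (q + 1) * k ^ 2 * c₁ ^ 3 := Nat.mul_le_mul_right _ hkey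
      _ = (q + 1) * (k ^ 2 * c₁ ^ 2 * c₁) := by ring
      _ ≤ (q + 1) * (k ^ 2 * c₁ ^ 2 * c₂ ^ 2) :=
          Nat.mul_le_mul_left _ (Nat.mul_le_mul_left _ hc1)
      _ = (q + 1) * (q ^ 2 + 1) ^ 2 := by rw [hk]; ring
  have h7 : 2 * (q ^ 2 + 1) * (q + 1) ^ 3 ≤ (q + 1) * (q ^ 2 + 1) ^ 2 :=
    le_trans (Nat.mul_le_mul_left _ (Nat.pow_le_pow_left (by omega) 3)) h6
  have h8 : 2 * (q + 1) ^ 2 ≤ q ^ 2 + 1 := by
    have h9 : (q ^ 2 + 1) * (q + 1) * (2 * (q + 1) ^ 2) ≤ (q ^ 2 + 1) * (q + 1) * (q ^ 2 + 1) := by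
      linarith [h7]
    exact Nat.le_of_mul_le_mul_left h9 (by positivity)
  nlinarith

/-- The orders of the tori force the exponent to be odd. -/
theorem square_arith {n q : ℕ} (hq : q = 2 ^ n) (hn : 2 ≤ n) (T : Finset ℕ) (w : ℕ → ℕ)
    (hT : ∀ c ∈ T, 3 ≤ c ∧ c ∣ q ^ 2 + 1 ∧ (w c = 2 ∨ w c = 4) ∧ w c ∣ c - 1)
    (hcop : ∀ c ∈ T, ∀ c' ∈ T, c ≠ c' → Nat.Coprime c c')
    (hsum : ∑ c ∈ T, ((c : ℚ) - 1) / w c = (q : ℚ) / 2)
    (hbound : ∑ c ∈ T, ((c : ℚ) - 1) / ((w c : ℚ) * c) ≤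
      1 / 2 - ((q : ℚ) + 1) / (2 * ((q : ℚ) ^ 2 + 1)))
    (hgap : ∑ c ∈ T, ((c : ℚ) - 1) / ((w c : ℚ) * c) <
      1 / 2 - ((q : ℚ) + 1) / (2 * ((q : ℚ) ^ 2 + 1)) →
      ∃ c', 0 < c' ∧ c' ∣ q ^ 2 + 1 ∧ (∀ c ∈ T, Nat.Coprime c' c) ∧
        (∑ c ∈ T, ((c : ℚ) - 1) / ((w c : ℚ) * c)) + 1 / (c' : ℚ) ≤
          1 / 2 - ((q : ℚ) + 1) / (2 * ((q : ℚ) ^ 2 + 1))) : Odd n := by
  classical
  have hq4 : 4 ≤ q := hq ▸ (by calc 4 = 2 ^ 2 := rfl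
                                    _ ≤ 2 ^ n := Nat.pow_le_pow_right two_pos hn)
  have hqQ : (4 : ℚ) ≤ q := by exact_mod_cast hq4
  have hpos : (0 : ℚ) < ((q : ℚ) + 1) / (2 * ((q : ℚ) ^ 2 + 1)) := by positivity
  set v : ℕ → ℚ := fun c => ((c : ℚ) - 1) / ((w c : ℚ) * c) with hv
  have hv2 : ∀ c ∈ T, w c = 2 → 1 / 3 ≤ v c := fun c hc h => by
    have h3 : (3 : ℚ) ≤ c := by exact_mod_cast (hT c hc).1
    simp only [hv, h]
    rw [le_div_iff₀ (by positivity)]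
    push_cast
    linarith
  have h5 : ∀ c ∈ T, w c = 4 → 5 ≤ c := fun c hc h => by
    obtain ⟨h3, -, -, hd⟩ := hT c hc
    rw [h] at hd
    omega
  have hv4 : ∀ c ∈ T, w c = 4 → 1 / 5 ≤ v c := fun c hc h => by
    have h3 : (5 : ℚ) ≤ c := by exact_mod_cast h5 c hc h
    simp only [hv, h]
    rw [le_div_iff₀ (by positivity)]
    push_cast
    linarith
  have hlow : ∀ c ∈ T, 1 / 5 ≤ v c := fun c hc => by
    rcases (hT c hc).2.2.1 with h | h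
    · linarith [hv2 c hc h]
    · exact hv4 c hc h
  have hnn : ∀ c ∈ T, 0 ≤ v c := fun c hc => by linarith [hlow c hc]
  by_cases h2 : ∃ c ∈ T, w c = 2
  · exfalso
    obtain ⟨c, hc, hwc⟩ := h2
    have hone : T = {c} := by
      refine Finset.eq_singleton_iff_unique_mem.mpr ⟨hc, fun e he => ?_⟩
      by_contra hne
      have h := Finset.sum_le_sum_of_subset_of_nonneg (f := v)
        (show {c, e} ⊆ T by simp [Finset.insert_subset_iff, hc, he]) (fun i hi _ => hnn i hi)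
      rw [Finset.sum_pair (Ne.symm hne)] at h
      have := hv2 c hc hwc
      have := hlow e he
      change ∑ c ∈ T, v c ≤ _ at hbound
      linarith
    rw [hone, Finset.sum_singleton, hwc] at hsum hbound
    have hcQ : (c : ℚ) = q + 1 := by push_cast at hsum; linarith
    rw [hcQ] at hbound
    push_cast at hbound
    rw [div_sub_div _ _ (by norm_num) (by positivity),
      div_le_div_iff₀ (by positivity) (by positivity)] at hbound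
    nlinarith
  push Not at h2
  have hw4 : ∀ c ∈ T, w c = 4 := fun c hc => ((hT c hc).2.2.1).resolve_left (h2 c hc)
  have hcard : T.card ≤ 2 := by
    by_contra hlt
    have h := Finset.card_nsmul_le_sum T v (1 / 5) hlow
    rw [nsmul_eq_mul] at h
    have : (3 : ℚ) ≤ T.card := by exact_mod_cast (by omega : 3 ≤ T.card)
    change ∑ c ∈ T, v c ≤ _ at hbound
    linarith
  rcases (show T.card = 0 ∨ T.card = 1 ∨ T.card = 2 by omega) with h0 | h0 | h0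
  · rw [Finset.card_eq_zero.mp h0, Finset.sum_empty] at hsum
    linarith
  · obtain ⟨c, rfl⟩ := Finset.card_eq_one.mp h0
    have hc := Finset.mem_singleton_self c
    rw [Finset.sum_singleton, hw4 c hc] at hsum
    have hcQ : (c : ℚ) = 2 * q + 1 := by push_cast at hsum; linarith
    have hc' : c = 2 * q + 1 := by exact_mod_cast hcQ
    have hdvd := (hT c hc).2.1
    have h5' : (c : ℤ) ∣ 5 := by
      have h1 : (c : ℤ) ∣ 4 * ((q : ℤ) ^ 2 + 1) := Dvd.dvd.mul_left (by exact_mod_cast hdvd) _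
      have h2 : (5 : ℤ) = 4 * ((q : ℤ) ^ 2 + 1) - (c : ℤ) * (2 * q - 1) := by
        rw [hc']; push_cast; ring
      rw [h2]
      exact dvd_sub h1 (dvd_mul_right _ _)
    have := Int.le_of_dvd (by norm_num) h5'
    omega
  · obtain ⟨c₁, c₂, hne, rfl⟩ := Finset.card_eq_two.mp h0
    wlog hle : c₂ ≤ c₁ generalizing c₁ c₂
    · exact this c₂ c₁ hne.symm (by rwa [Finset.pair_comm] at hT) (by rwa [Finset.pair_comm] at hcop)
        (by rwa [Finset.pair_comm] at hsum) (by rwa [Finset.pair_comm] at hbound)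
        (by rwa [Finset.pair_comm] at hgap) (by rwa [Finset.pair_comm] at hv2)
        (by rwa [Finset.pair_comm] at h5) (by rwa [Finset.pair_comm] at hv4)
        (by rwa [Finset.pair_comm] at hlow) (by rwa [Finset.pair_comm] at hnn)
        (by rwa [Finset.pair_comm] at h2) (by rwa [Finset.pair_comm] at hw4)
        (by rwa [Finset.pair_comm] at hcard) (by rwa [Finset.pair_comm] at h0) (by omega)
    have hm₁ : c₁ ∈ ({c₁, c₂} : Finset ℕ) := by simp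
    have hm₂ : c₂ ∈ ({c₁, c₂} : Finset ℕ) := by simp
    rw [Finset.sum_pair hne, hw4 _ hm₁, hw4 _ hm₂] at hsum
    rw [Finset.sum_pair hne, hw4 _ hm₁, hw4 _ hm₂] at hbound hgap
    have hsQ : (c₁ : ℚ) + c₂ = 2 * q + 2 := by push_cast at hsum; linarith
    push_cast at hbound hgap
    refine pair_arith hq hn (h5 _ hm₁ (hw4 _ hm₁)) (h5 _ hm₂ (hw4 _ hm₂)) hle
      (hcop _ hm₁ _ hm₂ hne) (hT _ hm₁).2.1 (hT _ hm₂).2.1 (by exact_mod_cast hsQ) hbound fun h => ?_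
    obtain ⟨c', h1, h2, h3, h4⟩ := hgap h
    exact ⟨c', h1, h2, h3 _ hm₁, h3 _ hm₂, h4⟩

end CfsgLib.ZassenhausSimple.Suz
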