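import Cfsg.Agent.Lib.ZassenhausSimple.Suzuki.Fibres
import Cfsg.Agent.Lib.ZassenhausSimple.Suzuki.SquareArith

/-!
# Simple Zassenhaus groups on `q ^ 2 + 1` points with a Suzuki 2-group as kernel
-/

set_option autoImplicit false
set_option linter.unusedSectionVars false

namespace CfsgLib.ZassenhausSimple.Suz

open MulAction CfsgLib.Char CfsgLib.Char.Zassenhaus CfsgLib.Classical22.CTK

variable {G Ω : Type*} [Group G] [Fintype G] [MulAction G Ω] [Fintype Ω]
variable {a b : Ω} {H : Subgroup G}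

/-- With a kernel of order `q ^ 2` the exponent of `q` is odd. -/
theorem ZData.odd_exponent (D : ZData a b H) {n : ℕ} (hn : 2 ≤ n) (hd : kk G a b + 1 = 2 ^ n)
    (hh : Nat.card H = (2 ^ n) ^ 2) : Odd n := by
  classical
  have := D.simple
  obtain ⟨q, hq⟩ : ∃ q : ℕ, q = 2 ^ n := ⟨_, rfl⟩
  rw [← hq] at hd hh
  have hsq : Nat.card H = Nat.card (zc H) ^ 2 := by rw [D.card_center, hd, hh]
  obtain ⟨t, htz, ht1⟩ := D.exists_central
  obtain ⟨-, ht2⟩ := (D.zc_iff ht1).mp htz
  set h := Nat.card H with hhdef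
  set d := kk G a b with hddef
  have hd3 : 3 ≤ d := D.fdata.three_le_kk
  have hh0 : (h : ℚ) ≠ 0 := by exact_mod_cast (Nat.card_pos (α := H)).ne'
  set S := Finset.univ.filter (fun x : G => SR Ω x ∧ t * x * t = x⁻¹) with hS
  let cc : G → ℕ := fun x => Nat.card (Subgroup.centralizer {x})
  set T := S.image cc with hT
  have hrep : ∀ c ∈ T, ∃ x, (SR Ω x ∧ t * x * t = x⁻¹) ∧ cc x = c := fun c hc => by
    obtain ⟨x, hx, rfl⟩ := Finset.mem_image.mp hc
    exact ⟨x, (Finset.mem_filter.mp hx).2, rfl⟩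
  choose rep hrep1 hrep2 using hrep
  let w : ℕ → ℕ := fun c => if hc : c ∈ T then Nat.card (wt H (Subgroup.centralizer {rep c hc})) else 1
  have hwpos : ∀ c ∈ T, (w c : ℚ) ≠ 0 := fun c hc => by
    simp only [w, dif_pos hc]
    exact_mod_cast (Nat.card_pos).ne'
  have hTfacts : ∀ c ∈ T, 3 ≤ c ∧ c ∣ q ^ 2 + 1 ∧ (w c = 2 ∨ w c = 4) ∧ w c ∣ c - 1 := by
    intro c hc
    obtain ⟨hx, htx⟩ := hrep1 c hc
    obtain ⟨hw, hwd⟩ := D.weight hsq htz ht1 hx htx
    have e := hrep2 c hc
    simp only [cc] at e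
    rw [e] at hwd
    simp only [w, dif_pos hc]
    refine ⟨?_, ?_, hw, hwd⟩
    · have hodd := D.cent_odd hx
      rw [e] at hodd
      have hne1 : c ≠ 1 := fun h1 => sr_ne_one a hx (by
        have hm : rep c hc ∈ Subgroup.centralizer {rep c hc} :=
          Subgroup.mem_centralizer_singleton_iff.mpr rfl
        rwa [Subgroup.card_eq_one.mp (e.trans h1), Subgroup.mem_bot] at hm)
      obtain ⟨j, hj⟩ := hodd
      omega
    · rw [← e, ← hh]
      exact D.card_cent_dvd hx
  have hc0 : ∀ c ∈ T, (c : ℚ) ≠ 0 := fun c hc => by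
    have := (hTfacts c hc).1
    exact_mod_cast (by omega : c ≠ 0)
  have hfib : ∀ c ∈ T, ((S.filter fun x => cc x = c).card : ℚ) =
      (h : ℚ) * (((c : ℚ) - 1) / w c) := by
    intro c hc
    obtain ⟨hx, htx⟩ := hrep1 c hc
    have e := hrep2 c hc
    simp only [cc] at e
    have hf := D.fibre htz ht1 hx htx
    rw [Nat.card_eq_fintype_card (α := {y : G // _}), Fintype.card_subtype, e] at hf
    rw [show S.filter (fun x => cc x = c) = Finset.univ.filter (fun y : G =>
      (SR Ω y ∧ t * y * t = y⁻¹) ∧ Nat.card (Subgroup.centralizer {y}) = c) by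
        rw [hS, Finset.filter_filter]]
    rw [← mul_div_assoc, eq_div_iff (hwpos c hc)]
    simp only [w, dif_pos hc]
    have hc3 := (hTfacts c hc).1
    rw [← Nat.cast_one (R := ℚ), ← Nat.cast_sub (by omega : 1 ≤ c)]
    exact_mod_cast hf
  have hmaps : ∀ x ∈ S, cc x ∈ T := fun x hx => Finset.mem_image_of_mem _ hx
  have hScard : (S.card : ℚ) = (h : ℚ) * q / 2 := by
    have h1 := D.two_mul_card_inverted htz ht1
    rw [Nat.card_eq_fintype_card, Fintype.card_subtype, ← hS, ← hhdef, ← hddef, hd] at h1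
    rw [eq_div_iff two_ne_zero, mul_comm]
    exact_mod_cast h1
  have hsum : ∑ c ∈ T, ((c : ℚ) - 1) / w c = (q : ℚ) / 2 := by
    have h1 : (S.card : ℚ) = ∑ c ∈ T, ((S.filter fun x => cc x = c).card : ℚ) := by
      exact_mod_cast Finset.card_eq_sum_card_fiberwise hmaps
    rw [hScard, Finset.sum_congr rfl hfib, ← Finset.mul_sum] at h1
    refine mul_left_cancel₀ hh0 ?_
    rw [← h1]; ring
  set V := ∑ c ∈ T, ((c : ℚ) - 1) / ((w c : ℚ) * c) with hV
  set B : ℚ := 1 / 2 - ((q : ℚ) + 1) / (2 * ((q : ℚ) ^ 2 + 1)) with hB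
  set K : ℚ := (d : ℚ) * ((h : ℚ) + 1) * h with hK
  have hK0 : 0 < K := by
    have : (0 : ℚ) < h := by exact_mod_cast (Nat.card_pos (α := H))
    have : (0 : ℚ) < d := by exact_mod_cast (by omega : 0 < d)
    positivity
  have hR : (Nat.card {x : G // Real' Ω x} : ℚ) = K * V := by
    rw [D.card_real htz ht1, ← hS, ← Finset.sum_fiberwise_of_maps_to hmaps, hK, ← hddef, ← hhdef,
      mul_assoc ((d : ℚ) * ((h : ℚ) + 1)) (h : ℚ) V]
    congr 1
    rw [hV, Finset.mul_sum]
    refine Finset.sum_congr rfl fun c hc => ?_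
    rw [Finset.sum_congr rfl (g := fun _ => (c : ℚ)⁻¹) (fun x hx => by
      rw [← (Finset.mem_filter.mp hx).2]), Finset.sum_const, nsmul_eq_mul, hfib c hc]
    have := hwpos c hc
    have := hc0 c hc
    field_simp
  have hF : (Nat.card {x : G // SR Ω x} : ℚ) = K * B := by
    have h1 := D.two_mul_card_sr
    rw [← hhdef, ← hddef] at h1
    have h1' : (2 : ℚ) * (Nat.card {x : G // SR Ω x} : ℚ) =
        (h : ℚ) * (((h : ℚ) + 1) * d - h + 1) := by exact_mod_cast h1
    have hdQ : (d : ℚ) + 1 = q := by exact_mod_cast hd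
    have hhQ : (h : ℚ) = (q : ℚ) ^ 2 := by exact_mod_cast hh
    have hq21 : ((q : ℚ) ^ 2 + 1) ≠ 0 := by positivity
    rw [hhQ, eq_sub_of_add_eq hdQ] at h1'
    rw [hK, hB, hhQ, eq_sub_of_add_eq hdQ]
    field_simp
    linear_combination h1'
  have hG : (Nat.card G : ℚ) = K := by
    rw [← card_group D.hZ D.hab, ← D.hHcard, hK, hhdef, hddef]
    push_cast
    simp
    ring
  have hsub : (Finset.univ.filter fun x : G => Real' Ω x) ⊆ Finset.univ.filter fun x : G => SR Ω x :=
    fun x hx => Finset.mem_filter.mpr ⟨Finset.mem_univ _, (Finset.mem_filter.mp hx).2.1⟩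
  rw [Nat.card_eq_fintype_card, Fintype.card_subtype] at hR hF
  refine square_arith hq hn T w hTfacts ?_ hsum ?_ ?_
  · intro c hc c' hc' hne
    refine Nat.coprime_of_dvd fun p hp h1 h2 => hne ?_
    obtain ⟨hx, htx⟩ := hrep1 c hc
    obtain ⟨hy, hty⟩ := hrep1 c' hc'
    rw [← hrep2 c hc] at h1 ⊢
    rw [← hrep2 c' hc'] at h2 ⊢
    obtain ⟨g, hg⟩ := D.common_prime ⟨hx, t, ht2, htx⟩ hy hp h1 h2
    simp only [cc]
    rw [← D.cent_eq hx ht2 htx hg (sr_ne_one a (sr_conj g hy)), card_cent_conj]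
  · have h1 : (((Finset.univ.filter fun x : G => Real' Ω x).card : ℕ) : ℚ) ≤
        ((Finset.univ.filter fun x : G => SR Ω x).card : ℕ) := by
      exact_mod_cast Finset.card_le_card hsub
    rw [hR, hF] at h1
    exact le_of_mul_le_mul_left h1 hK0
  · intro hlt
    obtain ⟨x, hx, hxR⟩ : ∃ x, SR Ω x ∧ ¬ Real' Ω x := by
      by_contra hcon
      push Not at hcon
      have he : (Finset.univ.filter fun x : G => Real' Ω x) =
          Finset.univ.filter fun x : G => SR Ω x :=
        hsub.antisymm fun x hx => Finset.mem_filter.mpr ⟨Finset.mem_univ _,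
          hcon x (Finset.mem_filter.mp hx).2⟩
      rw [he, hF] at hR
      exact hlt.ne (mul_left_cancel₀ hK0.ne' hR.symm)
    refine ⟨cc x, Nat.card_pos, hh ▸ D.card_cent_dvd hx, fun c hc => ?_, ?_⟩
    · obtain ⟨hy, hty⟩ := hrep1 c hc
      refine Nat.coprime_of_dvd fun p hp h1 h2 => hxR ?_
      rw [← hrep2 c hc] at h2
      obtain ⟨g, hg⟩ := D.common_prime ⟨hy, t, ht2, hty⟩ hx hp h2 h1
      have h3 : Real' Ω (g * x * g⁻¹) :=
        ⟨sr_conj g hx, t, ht2, D.inverts hy ht2 hty hg⟩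
      have h4 := real_conj g⁻¹ h3
      simpa [mul_assoc] using h4
    · set Cl := Finset.univ.filter fun y : G => IsConj x y with hCl
      have hdisj : Disjoint (Finset.univ.filter fun y : G => Real' Ω y) Cl := by
        rw [Finset.disjoint_left]
        intro y hy hy'
        obtain ⟨g, rfl⟩ := isConj_iff.mp (Finset.mem_filter.mp hy').2
        have h4 := real_conj g⁻¹ (Finset.mem_filter.mp hy).2
        exact hxR (by simpa [mul_assoc] using h4)
      have hle : ((Finset.univ.filter fun y : G => Real' Ω y) ∪ Cl).card ≤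
          (Finset.univ.filter fun y : G => SR Ω y).card := Finset.card_le_card (by
        refine Finset.union_subset hsub fun y hy => ?_
        obtain ⟨g, rfl⟩ := isConj_iff.mp (Finset.mem_filter.mp hy).2
        exact Finset.mem_filter.mpr ⟨Finset.mem_univ _, sr_conj g hx⟩)
      rw [Finset.card_union_of_disjoint hdisj] at hle
      have hle' : ((Finset.univ.filter fun y : G => Real' Ω y).card : ℚ) + (Cl.card : ℚ) ≤
          ((Finset.univ.filter fun y : G => SR Ω y).card : ℚ) := by exact_mod_cast hle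
      have hcl := card_isConj_mul_card_centralizer x
      rw [Nat.card_eq_fintype_card (α := {y : G // IsConj x y}), Fintype.card_subtype, ← hCl] at hcl
      have hcl' : (Cl.card : ℚ) * (cc x : ℚ) = K := by rw [← hG]; exact_mod_cast hcl
      have hcx : (0 : ℚ) < cc x := by exact_mod_cast Nat.card_pos
      have hclK : (Cl.card : ℚ) = K * (1 / cc x) := by
        rw [mul_one_div, eq_div_iff hcx.ne', hcl']
      rw [hR, hF, hclK, ← mul_add] at hle'
      exact le_of_mul_le_mul_left hle' hK0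

end CfsgLib.ZassenhausSimple.Suz
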