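import Cfsg.Agent.Lib.ZassenhausSimple.Suzuki.Tori

/-!
# Simple Zassenhaus groups with a Suzuki 2-group as kernel: pairs of involutions
-/

set_option autoImplicit false
set_option linter.unusedSectionVars false

namespace CfsgLib.ZassenhausSimple.Suz

open MulAction CfsgLib.Char CfsgLib.Char.Zassenhaus CfsgLib.Classical22.CTK

variable {G Ω : Type*} [Group G] [Fintype G] [MulAction G Ω] [Fintype Ω]
variable {a b : Ω} {H : Subgroup G}

/-- The fixed-point-free elements inverted by a central involution of the kernel. -/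
theorem ZData.two_mul_card_inverted (D : ZData a b H) {t : G} (htz : t ∈ zc H) (ht1 : t ≠ 1) :
    2 * Nat.card {x : G // SR Ω x ∧ t * x * t = x⁻¹} = Nat.card H * (kk G a b + 1) := by
  classical
  have := D.simple
  obtain ⟨htH, ht2⟩ := (D.zc_iff ht1).mp htz
  have htt : t * t = 1 := by rw [← pow_two, ← ht2, pow_orderOf_eq_one]
  have hta : t • a = a := mem_stabilizer_iff.mp (D.hHa htH)
  have htc : ∀ c : Ω, c ≠ a → t • c ≠ c := fun c hc h => hc (D.hHfix t htH ht1 c h)
  set I := (Finset.univ.filter fun s : G => orderOf s = 2).erase t with hI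
  have hIcard : I.card + 1 = kk G a b * (Nat.card H + 1) := by
    have h := (card_involution D.hZ D.hab (h := Nat.card H) D.hHcard.symm rfl D.hodd).1
    rw [if_pos D.even_card, Nat.card_eq_fintype_card, Fintype.card_subtype] at h
    have hm : t ∈ Finset.univ.filter fun s : G => orderOf s = 2 :=
      Finset.mem_filter.mpr ⟨Finset.mem_univ _, ht2⟩
    rw [hI, Finset.card_erase_add_one hm, h]
  set A := I.filter fun s => s • a = a with hA
  have hAcard : A.card + 1 = kk G a b := by
    rw [← D.card_involutions, Nat.card_eq_fintype_card, Fintype.card_subtype,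
      ← Finset.card_erase_add_one (Finset.mem_filter.mpr
        ⟨Finset.mem_univ _, htH, ht2⟩ : t ∈ Finset.univ.filter fun x : G => x ∈ H ∧ orderOf x = 2)]
    congr 2
    ext s
    simp only [hA, hI, Finset.mem_filter, Finset.mem_erase, Finset.mem_univ, true_and]
    exact ⟨fun ⟨⟨h1, h2⟩, h3⟩ => ⟨h1, D.mem_of_involution h2 h3, h2⟩,
      fun ⟨h1, h2, h3⟩ => ⟨⟨h1, h3⟩, mem_stabilizer_iff.mp (D.hHa h2)⟩⟩
  set B := I.filter fun s => ∃ c, c ≠ a ∧ s • c = t • c with hB
  set C := I.filter fun s => SR Ω (t * s) with hC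
  have hts : ∀ (s : G) (c : Ω), (t * s) • c = c ↔ s • c = t • c := fun s c => by
    constructor
    · intro h
      conv_rhs => rw [← h]
      rw [← mul_smul, ← mul_assoc, htt, one_mul]
    · intro h
      rw [mul_smul, h, ← mul_smul, htt, one_smul]
  have hne1 : ∀ s ∈ I, t * s ≠ 1 := fun s hs e => by
    refine (Finset.mem_erase.mp hs).1 ?_
    calc s = (t * t) * s := by rw [htt, one_mul]
      _ = t * (t * s) := mul_assoc _ _ _
      _ = t := by rw [e, mul_one]
  -- the fixed points of `t * s`
  have hswap : ∀ s ∈ I, ∀ c : Ω, s • c = t • c → s • (t • c) = t • (t • c) := fun s hs c h => by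
    have hss : s * s = 1 := by
      rw [← pow_two, ← (Finset.mem_filter.mp (Finset.mem_erase.mp hs).2).2, pow_orderOf_eq_one]
    conv_lhs => rw [← h, ← mul_smul, hss, one_smul]
    rw [← mul_smul, htt, one_smul]
  have htca : ∀ c : Ω, c ≠ a → t • c ≠ a := fun c hc h => hc (by
    rw [← one_smul G c, ← htt, mul_smul, h, hta])
  have hfix2 : ∀ s ∈ I, ∀ c : Ω, c ≠ a → s • c = t • c → ∀ e : Ω, (t * s) • e = e →
      e = c ∨ e = t • c := by
    intro s hs c hc h e he
    by_contra hne
    push Not at hne
    exact hne1 s hs (eq_one_of_fix D.hZ (htc c hc).symm hne.2.symm hne.1.symm ((hts s c).mpr h)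
      ((hts s _).mpr (hswap s hs c h)) he)
  have hAB : Disjoint A B := by
    rw [Finset.disjoint_left]
    intro s hsA hsB
    obtain ⟨hsI, hsa⟩ := Finset.mem_filter.mp hsA
    obtain ⟨-, c, hc, hsc⟩ := Finset.mem_filter.mp hsB
    rcases hfix2 s hsI c hc hsc a ((hts s a).mpr (by rw [hsa, hta])) with e | e
    · exact hc e.symm
    · exact htca c hc e.symm
  have hpart : A.card + B.card + C.card = I.card := by
    rw [← Finset.card_union_of_disjoint hAB, ← Finset.card_filter_add_card_filter_not (s := I)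
      (p := fun s => SR Ω (t * s)), ← hC, add_comm]
    congr 2
    ext s
    simp only [hA, hB, Finset.mem_union, Finset.mem_filter]
    constructor
    · rintro (⟨h1, h2⟩ | ⟨h1, c, -, h3⟩)
      · exact ⟨h1, fun h => h a ((hts s a).mpr (by rw [h2, hta]))⟩
      · exact ⟨h1, fun h => h c ((hts s c).mpr h3)⟩
    · rintro ⟨h1, h2⟩
      simp only [SR, not_forall, not_not] at h2
      obtain ⟨c, hc⟩ := h2
      rw [hts] at hc
      by_cases hca : c = a
      · exact Or.inl ⟨h1, by rw [← hca, hc, hca, hta]⟩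
      · exact Or.inr ⟨h1, c, hca, hc⟩
  have hBcard : 2 * B.card + Nat.card H = Nat.card H * kk G a b := by
    have h1 : ∀ c ∈ Finset.univ.erase a,
        (I.filter fun s => s • c = t • c).card + 1 = kk G a b := by
      intro c hc
      have hc' := Finset.ne_of_mem_erase hc
      rw [← D.card_swaps (htc c hc').symm, Nat.card_eq_fintype_card, Fintype.card_subtype,
        ← Finset.card_erase_add_one (Finset.mem_filter.mpr
          ⟨Finset.mem_univ _, ht2, rfl⟩ :
            t ∈ Finset.univ.filter fun s : G => orderOf s = 2 ∧ s • c = t • c)]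
      congr 2
      ext s
      simp only [hI, Finset.mem_filter, Finset.mem_erase, Finset.mem_univ, true_and, and_assoc]
    have h2 : ∀ s ∈ I, ((Finset.univ.erase a).filter fun c => s • c = t • c).card =
        if s ∈ B then 2 else 0 := by
      intro s hs
      split_ifs with hsB
      · obtain ⟨-, c, hc, hsc⟩ := Finset.mem_filter.mp hsB
        rw [show (Finset.univ.erase a).filter (fun c => s • c = t • c) = {c, t • c} from ?_,
          Finset.card_pair (htc c hc).symm]
        ext e
        simp only [Finset.mem_filter, Finset.mem_erase, Finset.mem_univ, and_true,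
          Finset.mem_insert, Finset.mem_singleton]
        constructor
        · exact fun h => hfix2 s hs c hc hsc e ((hts s e).mpr h.2)
        · rintro (rfl | rfl)
          · exact ⟨hc, hsc⟩
          · exact ⟨htca c hc, hswap s hs c hsc⟩
      · refine Finset.card_eq_zero.mpr (Finset.filter_eq_empty_iff.mpr fun c hc h => hsB ?_)
        exact Finset.mem_filter.mpr ⟨hs, c, Finset.ne_of_mem_erase hc, h⟩
    have h3 := Finset.sum_card_bipartiteAbove_eq_sum_card_bipartiteBelow
      (s := Finset.univ.erase a) (t := I) (fun (c : Ω) (s : G) => s • c = t • c)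
    simp only [Finset.bipartiteAbove, Finset.bipartiteBelow] at h3
    rw [Finset.sum_congr rfl h2, ← Finset.sum_filter, Finset.sum_const, smul_eq_mul,
      show I.filter (fun s => s ∈ B) = B from ?_] at h3
    swap
    · ext s
      simp only [Finset.mem_filter, hB]
      tauto
    have h4 : ∑ c ∈ Finset.univ.erase a, ((I.filter fun s => s • c = t • c).card + 1) =
        Nat.card H * kk G a b := by
      rw [Finset.sum_congr rfl h1, Finset.sum_const, smul_eq_mul,
        Finset.card_erase_of_mem (Finset.mem_univ _), Finset.card_univ, ← D.hHcard,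
        Nat.add_sub_cancel]
    rw [Finset.sum_add_distrib, h3, Finset.sum_const, smul_eq_mul, mul_one,
      Finset.card_erase_of_mem (Finset.mem_univ _), Finset.card_univ, ← D.hHcard,
      Nat.add_sub_cancel, mul_comm B.card] at h4
    exact h4
  have hCcard : C.card = Nat.card {x : G // SR Ω x ∧ t * x * t = x⁻¹} := by
    rw [Nat.card_eq_fintype_card, Fintype.card_subtype]
    refine Finset.card_bij (fun s _ => t * s) (fun s hs => ?_) (fun s _ s' _ e => mul_left_cancel e)
      fun x hx => ?_
    · obtain ⟨hsI, hsr⟩ := Finset.mem_filter.mp hs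
      have hss : s * s = 1 := by
        rw [← pow_two, ← (Finset.mem_filter.mp (Finset.mem_erase.mp hsI).2).2, pow_orderOf_eq_one]
      refine Finset.mem_filter.mpr ⟨Finset.mem_univ _, hsr, ?_⟩
      rw [mul_inv_rev, inv_eq_of_mul_eq_one_right hss, inv_eq_of_mul_eq_one_right htt,
        ← mul_assoc t t s, htt, one_mul]
    · obtain ⟨-, hsr, hinv⟩ := Finset.mem_filter.mp hx
      have hxx : t * x * (t * x) = 1 := by
        rw [show t * x * (t * x) = t * x * t * x by group, hinv, inv_mul_cancel]
      have h2 : orderOf (t * x) = 2 := by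
        refine orderOf_eq_prime (by rw [pow_two, hxx]) fun e => hsr a ?_
        rw [← one_mul x, ← htt, mul_assoc, e, mul_one, hta]
      refine ⟨t * x, Finset.mem_filter.mpr ⟨Finset.mem_erase.mpr ⟨fun e => sr_ne_one a hsr ?_,
        Finset.mem_filter.mpr ⟨Finset.mem_univ _, h2⟩⟩, ?_⟩, ?_⟩
      · calc x = t * t * x := by rw [htt, one_mul]
          _ = 1 := by rw [mul_assoc, e, htt]
      · rwa [← mul_assoc, htt, one_mul]
      · show t * (t * x) = x
        rw [← mul_assoc, htt, one_mul]
  rw [← hCcard]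
  nlinarith [hIcard, hAcard, hpart, hBcard]

/-- The fixed-point-free elements inverted by some involution, counted with weights. -/
theorem ZData.card_real (D : ZData a b H) {t : G} (htz : t ∈ zc H) (ht1 : t ≠ 1)
    [DecidablePred fun x : G => SR Ω x ∧ t * x * t = x⁻¹] :
    (Nat.card {x : G // Real' Ω x} : ℚ) = (kk G a b : ℚ) * (Nat.card H + 1) *
      ∑ x ∈ Finset.univ.filter (fun x : G => SR Ω x ∧ t * x * t = x⁻¹),
        (Nat.card (Subgroup.centralizer {x}) : ℚ)⁻¹ := by
  classical
  have := D.simple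
  obtain ⟨htH, ht2⟩ := (D.zc_iff ht1).mp htz
  obtain ⟨t₀, ht₀, hta, htb⟩ := exists_swap D.hZ D.hab D.hodd
  set I := Finset.univ.filter fun s : G => orderOf s = 2 with hI
  have hIc : I.card = kk G a b * (Nat.card H + 1) := by
    have h := (card_involution D.hZ D.hab (h := Nat.card H) D.hHcard.symm rfl D.hodd).1
    rw [if_pos D.even_card, Nat.card_eq_fintype_card, Fintype.card_subtype] at h
    exact h
  set R := Finset.univ.filter fun x : G => Real' Ω x with hR
  have hone : ∀ x ∈ R, ∑ s ∈ I.filter (fun s => s * x * s = x⁻¹),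
      (Nat.card (Subgroup.centralizer {x}) : ℚ)⁻¹ = 1 := by
    intro x hx
    obtain ⟨-, hsr, s₀, hs₀, hs₀x⟩ := Finset.mem_filter.mp hx
    have hss : s₀ * s₀ = 1 := by rw [← pow_two, ← hs₀, pow_orderOf_eq_one]
    have hcard : (I.filter fun s => s * x * s = x⁻¹).card =
        Nat.card (Subgroup.centralizer {x}) := by
      rw [← Fintype.card_coe, ← Nat.card_eq_fintype_card]
      refine (Nat.card_congr (Equiv.ofBijective
        (fun y : Subgroup.centralizer {x} => (⟨s₀ * y, ?_⟩ : {s // s ∈ _}))
        ⟨fun y z e => Subtype.ext (mul_left_cancel (congrArg Subtype.val e)), fun s => ?_⟩)).symm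
      · have hy : (y : G) * x = x * y := Subgroup.mem_centralizer_singleton_iff.mp y.2
        have hinv := D.inverts hsr hs₀ hs₀x y.2
        have h2 : s₀ * (y : G) * (s₀ * y) = 1 := by
          rw [show s₀ * (y : G) * (s₀ * y) = s₀ * y * s₀ * y by group, hinv, inv_mul_cancel]
        refine Finset.mem_filter.mpr ⟨Finset.mem_filter.mpr ⟨Finset.mem_univ _,
          orderOf_eq_prime (by rw [pow_two, h2]) fun e => ?_⟩, ?_⟩
        · refine D.not_commute hsr hs₀ ?_
          rw [show s₀ = (y : G)⁻¹ from eq_inv_of_mul_eq_one_left e]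
          exact (Commute.inv_left hy).eq
        · have hxinv : (s₀ * (y : G))⁻¹ = s₀ * y := inv_eq_of_mul_eq_one_right h2
          calc s₀ * (y : G) * x * (s₀ * y) = s₀ * ((y : G) * x) * (s₀ * y) := by group
            _ = s₀ * (x * y) * (s₀ * y) := by rw [hy]
            _ = s₀ * x * s₀ * (s₀⁻¹ * (y : G) * (s₀ * y)) := by group
            _ = x⁻¹ * (s₀ * (y : G) * (s₀ * y)) := by rw [hs₀x, inv_eq_of_mul_eq_one_right hss]
            _ = x⁻¹ := by rw [h2, mul_one]
      · obtain ⟨s, hs⟩ := s
        obtain ⟨hsI, hsx⟩ := Finset.mem_filter.mp hs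
        have hs2 : s * s = 1 := by
          rw [← pow_two, ← (Finset.mem_filter.mp hsI).2, pow_orderOf_eq_one]
        refine ⟨⟨s₀ * s, Subgroup.mem_centralizer_singleton_iff.mpr ?_⟩, Subtype.ext ?_⟩
        · have hsx' : s * x = x⁻¹ * s := by rw [← hsx, mul_assoc _ s s, hs2, mul_one]
          have hs₀' : s₀ * x⁻¹ = x * s₀ := by
            rw [← hs₀x, ← mul_assoc, ← mul_assoc, hss, one_mul]
          calc s₀ * s * x = s₀ * (x⁻¹ * s) := by rw [mul_assoc, hsx']
            _ = x * (s₀ * s) := by rw [← mul_assoc, hs₀', mul_assoc]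
        · show s₀ * (s₀ * s) = s
          rw [← mul_assoc, hss, one_mul]
    rw [Finset.sum_const, hcard, nsmul_eq_mul]
    exact mul_inv_cancel₀ (by exact_mod_cast Nat.card_pos.ne')
  have hconst : ∀ s ∈ I, ∑ x ∈ R.filter (fun x => s * x * s = x⁻¹),
      (Nat.card (Subgroup.centralizer {x}) : ℚ)⁻¹ =
      ∑ x ∈ Finset.univ.filter (fun x : G => SR Ω x ∧ t * x * t = x⁻¹),
        (Nat.card (Subgroup.centralizer {x}) : ℚ)⁻¹ := by
    intro s hs
    obtain ⟨g, hg⟩ := isConj_iff.mp
      ((conj_swap D.hZ D.hab D.hodd hta htb (Finset.mem_filter.mp hs).2).trans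
        (conj_swap D.hZ D.hab D.hodd hta htb ht2).symm)
    refine Finset.sum_bij' (fun x _ => g * x * g⁻¹) (fun x _ => g⁻¹ * x * g) ?_ ?_
      (fun x _ => by group) (fun x _ => by group) (fun x _ => by rw [card_cent_conj])
    · intro x hx
      obtain ⟨hxR, hsx⟩ := Finset.mem_filter.mp hx
      refine Finset.mem_filter.mpr ⟨Finset.mem_univ _, sr_conj g (Finset.mem_filter.mp hxR).2.1, ?_⟩
      rw [← hg]
      calc g * s * g⁻¹ * (g * x * g⁻¹) * (g * s * g⁻¹) = g * (s * x * s) * g⁻¹ := by group
        _ = (g * x * g⁻¹)⁻¹ := by rw [hsx]; group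
    · intro x hx
      obtain ⟨-, hsr, htx⟩ := Finset.mem_filter.mp hx
      have hsx : s * (g⁻¹ * x * g) * s = (g⁻¹ * x * g)⁻¹ := by
        calc s * (g⁻¹ * x * g) * s = g⁻¹ * ((g * s * g⁻¹) * x * (g * s * g⁻¹)) * g := by group
          _ = (g⁻¹ * x * g)⁻¹ := by rw [hg, htx]; group
      refine Finset.mem_filter.mpr ⟨Finset.mem_filter.mpr ⟨Finset.mem_univ _, ?_,
        s, (Finset.mem_filter.mp hs).2, hsx⟩, hsx⟩
      simpa using sr_conj g⁻¹ hsr
  have h1 : ∑ x ∈ R, ∑ s ∈ I.filter (fun s => s * x * s = x⁻¹),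
      (Nat.card (Subgroup.centralizer {x}) : ℚ)⁻¹ = (R.card : ℚ) := by
    rw [Finset.sum_congr rfl hone, Finset.sum_const, nsmul_one]
  rw [Nat.card_eq_fintype_card, Fintype.card_subtype, ← hR, ← h1]
  simp only [Finset.sum_filter]
  rw [Finset.sum_comm]
  simp only [← Finset.sum_filter]
  rw [Finset.sum_congr rfl hconst, Finset.sum_const, nsmul_eq_mul, hIc]
  push_cast
  ring

end CfsgLib.ZassenhausSimple.Suz
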