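import Cfsg.Agent.Lib.ZassenhausSimple.Suzuki.Local
import Cfsg.Agent.Lib.ZassenhausSimple.Sharp
import Cfsg.Agent.Lib.Solvable.FrobeniusComplement
import Cfsg.Agent.S0345
import Cfsg.Agent.S0738
import Cfsg.Agent.S1137
import Cfsg.Agent.S1138

/-!
# Simple Zassenhaus groups with a non-abelian 2-kernel: the kernel is a Suzuki 2-group
-/

set_option autoImplicit false
set_option linter.unusedSectionVars false

namespace CfsgLib.ZassenhausSimple.Suz

open MulAction CfsgLib.Char CfsgLib.Char.Zassenhaus CfsgLib.Classical22.CTK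

variable {G Ω : Type*} [Group G] [Fintype G] [MulAction G Ω] [Fintype Ω]

/-- The standing hypotheses: the kernel of a point stabiliser is a non-abelian 2-group. -/
structure ZData (a b : Ω) (H : Subgroup G) : Prop where
  hZ : Cfsg.IsZassenhausGroup G Ω
  simple : IsSimpleGroup G
  hab : a ≠ b
  hHa : H ≤ stabilizer G a
  hHcard : Nat.card H + 1 = Fintype.card Ω
  hHfix : ∀ v ∈ H, v ≠ 1 → ∀ c : Ω, v • c = c → c = a
  hH2 : IsPGroup 2 H
  hHna : ∃ x ∈ H, ∃ y ∈ H, x * y ≠ y * x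

variable {a b : Ω} {H : Subgroup G}

theorem ZData.regular (D : ZData a b H) {y z : Ω} (hy : y ≠ a) (hz : z ≠ a) :
    ∃! v : H, (v : G) • y = z := by
  have hbij := bijective_smul D.hZ hy.symm D.hHa D.hHcard D.hHfix
  obtain ⟨u, hu⟩ := hbij.2 ⟨z, hz⟩
  exact ⟨u, congrArg Subtype.val hu, fun v hv => hbij.1 ((Subtype.ext hv).trans hu.symm)⟩

theorem ZData.exists_two_pow (D : ZData a b H) : ∃ k, 0 < k ∧ Nat.card H = 2 ^ k := by
  obtain ⟨k, hk⟩ := IsPGroup.iff_card.mp D.hH2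
  refine ⟨k, Nat.pos_of_ne_zero fun h => ?_, hk⟩
  obtain ⟨x, hx, y, hy, hxy⟩ := D.hHna
  rw [h, pow_zero, Subgroup.card_eq_one] at hk
  rw [hk, Subgroup.mem_bot] at hx
  exact hxy (by rw [hx, one_mul, mul_one])

theorem ZData.hodd (D : ZData a b H) :
    Odd (Nat.card ↥(stabilizer G a ⊓ stabilizer G b : Subgroup G)) := by
  obtain ⟨k, hk0, hk⟩ := D.exists_two_pow
  have h1 := card_dvd D.hZ D.hab
  rw [← D.hHcard, hk] at h1
  have h2 : 2 ^ k + 1 - 2 = 2 ^ k - 1 := by omega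
  rw [h2] at h1
  exact (Nat.Even.sub_odd Nat.one_le_two_pow (Nat.even_pow.mpr ⟨even_two, hk0.ne'⟩) odd_one).of_dvd_nat h1

theorem ZData.fdata (D : ZData a b H) : FData a b H := by
  refine ⟨D.hZ, D.simple, D.hab, D.hodd, D.hHa, D.hHcard, D.hHfix, ?_⟩
  by_contra hlt
  obtain ⟨hcomm, -⟩ := Cfsg.Agent.S0738.result D.hZ D.hab (by
      rw [← D.hHcard]; simp only [kk] at hlt; omega) H D.hHa
    ⟨fun n hn g => Subgroup.mem_subgroupOf.mpr
      (conj_mem_kernel D.hZ D.hab D.hHa D.hHcard D.hHfix g.2 (Subgroup.mem_subgroupOf.mp hn))⟩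
    (fun y z hy hz => D.regular hy hz)
  obtain ⟨x, hx, y, hy, hxy⟩ := D.hHna
  exact hxy (congrArg Subtype.val (hcomm.is_comm.comm ⟨x, hx⟩ ⟨y, hy⟩))

theorem ZData.even_card (D : ZData a b H) : Even (Nat.card H) := by
  obtain ⟨k, hk0, hk⟩ := D.exists_two_pow
  rw [hk]
  exact Nat.even_pow.mpr ⟨even_two, hk0.ne'⟩

theorem ZData.conj_mem (D : ZData a b H) {g v : G} (hg : g • a = a) (hv : v ∈ H) :
    g * v * g⁻¹ ∈ H :=
  conj_mem_kernel D.hZ D.hab D.hHa D.hHcard D.hHfix (mem_stabilizer_iff.mpr hg) hv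

theorem ZData.le_normalizer (D : ZData a b H) :
    stabilizer G a ≤ Subgroup.normalizer (H : Set G) := by
  intro g hg v
  refine ⟨fun hv => D.conj_mem (mem_stabilizer_iff.mp hg) hv, fun hv => ?_⟩
  have := D.conj_mem (mem_stabilizer_iff.mp ((stabilizer G a).inv_mem hg)) hv
  simpa [mul_assoc] using this

/-- An involution fixing `a` lies in the kernel. -/
theorem ZData.mem_of_involution (D : ZData a b H) {x : G} (hx : orderOf x = 2) (hxa : x • a = a) :
    x ∈ H := by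
  by_contra hxH
  obtain ⟨v, hv, y, hy, hy1, rfl⟩ :=
    exists_conj_mem D.hZ D.hab D.hHa D.hHcard D.hHfix (mem_stabilizer_iff.mpr hxa) hxH
  have h1 := Subgroup.orderOf_dvd_natCard _ hy
  rw [← MulEquiv.orderOf_eq (MulAut.conj v) y, MulAut.conj_apply, hx] at h1
  exact Nat.not_even_iff_odd.mpr D.hodd (even_iff_two_dvd.mpr h1)

/-- Involutions fix exactly one point. -/
theorem ZData.fix_unique (D : ZData a b H) {x : G} (hx : orderOf x = 2) : ∃! c : Ω, x • c = c := by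
  have := D.simple
  have h := (card_involution D.hZ D.hab (h := Nat.card H) D.hHcard.symm rfl D.hodd).2 x hx
  rw [if_pos D.even_card, Nat.card_eq_one_iff_unique] at h
  obtain ⟨hs, ⟨c⟩⟩ := h
  exact ⟨c, c.2, fun d hd => congrArg Subtype.val (hs.elim ⟨d, hd⟩ c)⟩

/-- The kernel has as many involutions as the two-point stabiliser has elements. -/
theorem ZData.card_involutions (D : ZData a b H) :
    Nat.card {x : G // x ∈ H ∧ orderOf x = 2} = kk G a b := by
  classical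
  have := D.simple
  have h := (card_involution D.hZ D.hab (h := Nat.card H) D.hHcard.symm rfl D.hodd).1
  rw [if_pos D.even_card] at h
  have hpre := CfsgLib.Char.Zassenhaus.isPretransitive D.hZ
  choose p hp hu using fun x : {x : G // orderOf x = 2} => D.fix_unique x.2
  have hfib : ∀ c : Ω, Nat.card {x : {x : G // orderOf x = 2} // p x = c} =
      Nat.card {x : G // x ∈ H ∧ orderOf x = 2} := by
    intro c
    obtain ⟨g, hg⟩ := MulAction.exists_smul_eq G a c
    refine Nat.card_congr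
      { toFun := fun x => ⟨g⁻¹ * x.1.1 * g, ?_, ?_⟩
        invFun := fun x => ⟨⟨g * x.1 * g⁻¹, ?_⟩, ?_⟩
        left_inv := fun x => by ext; simp [mul_assoc]
        right_inv := fun x => by ext; simp [mul_assoc] }
    · refine D.mem_of_involution ?_ ?_
      · rw [← MulEquiv.orderOf_eq (MulAut.conj g), MulAut.conj_apply]
        simp [mul_assoc, x.1.2]
      · rw [mul_smul, mul_smul, hg, inv_smul_eq_iff, hg]
        have := hp x.1
        rwa [x.2] at this
    · rw [← MulEquiv.orderOf_eq (MulAut.conj g), MulAut.conj_apply]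
      simp [mul_assoc, x.1.2]
    · rw [← MulAut.conj_apply, MulEquiv.orderOf_eq, x.2.2]
    · refine (hu _ c ?_).symm
      show (g * x.1 * g⁻¹) • c = c
      rw [← hg, mul_smul, inv_smul_smul, mul_smul, mem_stabilizer_iff.mp (D.hHa x.2.1)]
  rw [← Nat.card_congr (Equiv.sigmaFiberEquiv p), Nat.card_sigma, Finset.sum_congr rfl
    fun c _ => hfib c, Finset.sum_const, Finset.card_univ, smul_eq_mul, ← D.hHcard,
    mul_comm (Nat.card ↥(stabilizer G a ⊓ stabilizer G b : Subgroup G))] at h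
  exact Nat.eq_of_mul_eq_mul_left (by omega) h

/-- The two-point stabiliser is regular on the involutions of the kernel, and they are central. -/
theorem ZData.involutions (D : ZData a b H) :
    (∀ z ∈ H, orderOf z = 2 → ∀ v ∈ H, z * v = v * z) ∧
      ∀ z ∈ H, orderOf z = 2 → ∀ w ∈ H, orderOf w = 2 →
        ∃! x : (stabilizer G a ⊓ stabilizer G b : Subgroup G), (x : G) * z * (x : G)⁻¹ = w := by
  classical
  set E : Subgroup G := stabilizer G a ⊓ stabilizer G b with hE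
  have hfpf := fpf D.hZ D.hab D.hHa D.hHfix
  have := D.hH2
  obtain ⟨k, hk0, hk⟩ := D.exists_two_pow
  haveI : Nontrivial H := Finite.one_lt_card_iff_nontrivial.mp (by
    rw [hk]; exact Nat.one_lt_two_pow hk0.ne')
  haveI : Nontrivial (Subgroup.center H) := D.hH2.center_nontrivial
  obtain ⟨z₀, hz₀⟩ : ∃ z₀ : Subgroup.center H, orderOf z₀ = 2 := by
    apply exists_prime_orderOf_dvd_card' 2
    obtain ⟨j, hj⟩ := IsPGroup.iff_card.mp (D.hH2.to_subgroup (Subgroup.center H))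
    rw [hj]
    refine dvd_pow_self 2 fun h0 => ?_
    rw [h0, pow_zero] at hj
    exact absurd hj (Finite.one_lt_card).ne'
  obtain ⟨zz, hzdef⟩ : ∃ zz : G, zz = ((z₀ : H) : G) := ⟨_, rfl⟩
  have hzH : zz ∈ H := hzdef ▸ (z₀ : H).2
  have hz2 : orderOf zz = 2 := by
    rw [hzdef, Subgroup.orderOf_coe, Subgroup.orderOf_coe, hz₀]
  have hzc : ∀ v ∈ H, zz * v = v * zz := fun v hv => by
    rw [hzdef]
    exact (congrArg Subtype.val (Subgroup.mem_center_iff.mp z₀.2 ⟨v, hv⟩)).symm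
  have hfree : ∀ z ∈ H, orderOf z = 2 → ∀ x y : E,
      (x : G) * z * (x : G)⁻¹ = (y : G) * z * (y : G)⁻¹ → x = y := by
    intro z hzH hz2 x y e
    by_contra hne
    have h1 : (y : G)⁻¹ * x ≠ 1 := fun h => hne (Subtype.ext (inv_mul_eq_one.mp h).symm)
    have h2 : z ∈ H ⊓ Subgroup.centralizer ({(y : G)⁻¹ * x} : Set G) :=
      ⟨hzH, Subgroup.mem_centralizer_singleton_iff.mpr (by
        calc z * ((y : G)⁻¹ * x) = (y : G)⁻¹ * ((y : G) * z * (y : G)⁻¹) * x := by group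
          _ = (y : G)⁻¹ * ((x : G) * z * (x : G)⁻¹) * x := by rw [e]
          _ = (y : G)⁻¹ * x * z := by group)⟩
    rw [hfpf _ (E.mul_mem (E.inv_mem y.2) x.2) h1, Subgroup.mem_bot] at h2
    rw [h2, orderOf_one] at hz2
    exact absurd hz2 (by norm_num)
  let f : ∀ z : G, z ∈ H → orderOf z = 2 → E → {x : G // x ∈ H ∧ orderOf x = 2} :=
    fun z hzH hz2 x => ⟨(x : G) * z * (x : G)⁻¹, D.conj_mem (mem_stabilizer_iff.mp x.2.1) hzH,
      by rw [← MulAut.conj_apply, MulEquiv.orderOf_eq, hz2]⟩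
  have hbij : ∀ (z : G) (hzH : z ∈ H) (hz2 : orderOf z = 2), Function.Bijective (f z hzH hz2) := by
    intro z hzH hz2
    have := Fintype.ofFinite E
    have := Fintype.ofFinite {x : G // x ∈ H ∧ orderOf x = 2}
    refine (Fintype.bijective_iff_injective_and_card _).mpr
      ⟨fun x y e => hfree z hzH hz2 x y (congrArg Subtype.val e), ?_⟩
    rw [← Nat.card_eq_fintype_card, ← Nat.card_eq_fintype_card, D.card_involutions]
  refine ⟨fun z hz hz' v hv => ?_, fun z hz hz' w hw hw' => ?_⟩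
  · obtain ⟨x, hx⟩ := (hbij zz hzH hz2).2 ⟨z, hz, hz'⟩
    have hx' : (x : G) * zz * (x : G)⁻¹ = z := congrArg Subtype.val hx
    have h1 : (x : G)⁻¹ * v * x ∈ H := by
      have := D.conj_mem (mem_stabilizer_iff.mp (E.inv_mem x.2).1) hv
      simpa using this
    have h2 := hzc _ h1
    calc z * v = (x : G) * (zz * ((x : G)⁻¹ * v * x)) * (x : G)⁻¹ := by rw [← hx']; group
      _ = (x : G) * (((x : G)⁻¹ * v * x) * zz) * (x : G)⁻¹ := by rw [h2]
      _ = v * z := by rw [← hx']; group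
  · obtain ⟨x, hx⟩ := (hbij z hz hz').2 ⟨w, hw, hw'⟩
    exact ⟨x, congrArg Subtype.val hx, fun y hy =>
      (hbij z hz hz').1 ((Subtype.ext hy).trans hx.symm)⟩

theorem ZData.suzuki_two_group (D : ZData a b H) : Cfsg.IsSuzukiTwoGroup H := by
  classical
  have := D.simple
  set E : Subgroup G := stabilizer G a ⊓ stabilizer G b with hE
  obtain ⟨-, hreg⟩ := D.involutions
  obtain ⟨hcyc, -⟩ := Cfsg.Agent.S0345.result D.hZ D.hab
  let φ : E →* MulAut H :=
    H.normalizerMonoidHom.comp (Subgroup.inclusion (inf_le_left.trans D.le_normalizer))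
  have hφ : ∀ (x : E) (v : H), ((φ x v : H) : G) = (x : G) * v * (x : G)⁻¹ := fun x v => rfl
  have hinvol : ∀ v : H, v ≠ 1 → v * v = 1 → (v : G) ∈ H ∧ orderOf (v : G) = 2 := fun v h1 h2 =>
    ⟨v.2, orderOf_eq_prime (by rw [pow_two]; exact congrArg Subtype.val h2)
      fun e => h1 (Subtype.ext e)⟩
  have hinvol' : ∀ v : G, orderOf v = 2 → v ≠ 1 ∧ v * v = 1 := fun v hv =>
    ⟨fun e => by rw [e, orderOf_one] at hv; exact absurd hv (by norm_num),
      by rw [← pow_two, ← hv, pow_orderOf_eq_one]⟩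
  refine ⟨inferInstance, D.hH2, ?_, ?_, φ.range, ?_, fun x y hx hx' hy hy' => ?_⟩
  · obtain ⟨x, hx, y, hy, hxy⟩ := D.hHna
    exact ⟨⟨x, hx⟩, ⟨y, hy⟩, fun e => hxy (congrArg Subtype.val e)⟩
  · have h1 : 1 < Nat.card {x : G // x ∈ H ∧ orderOf x = 2} := by
      have h3 := D.fdata.three_le_kk
      rw [D.card_involutions]; omega
    obtain ⟨⟨x, hx, hx2⟩, ⟨y, hy, hy2⟩, hne⟩ := Finite.one_lt_card_iff_nontrivial.mp h1
    obtain ⟨hx1, hx2⟩ := hinvol' x hx2
    obtain ⟨hy1, hy2⟩ := hinvol' y hy2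
    exact ⟨⟨x, hx⟩, ⟨y, hy⟩, fun e => hne (Subtype.ext (congrArg (fun v : H => (v : G)) e)),
      fun e => hx1 (congrArg Subtype.val e), Subtype.ext hx2,
      fun e => hy1 (congrArg Subtype.val e), Subtype.ext hy2⟩
  · haveI := hcyc
    exact isCyclic_of_surjective φ.rangeRestrict φ.rangeRestrict_surjective
  · obtain ⟨g, hg, hgu⟩ := hreg x x.2 (hinvol x hx hx').2 y y.2 (hinvol y hy hy').2
    refine ⟨φ.rangeRestrict g, Subtype.ext ?_, ?_⟩
    · show ((φ g x : H) : G) = y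
      rw [hφ, hg]
    · rintro ⟨k, e, rfl⟩ hk
      have h1 : ((φ e x : H) : G) = (y : G) := congrArg Subtype.val hk
      rw [hφ] at h1
      exact congrArg φ.rangeRestrict (hgu e h1)

/-- The centre of the kernel. -/
def zc (H : Subgroup G) : Subgroup G := (Subgroup.center H).map H.subtype

theorem mem_zc {z : G} : z ∈ zc H ↔ ∃ h : z ∈ H, (⟨z, h⟩ : H) ∈ Subgroup.center H := by
  constructor
  · rintro ⟨w, hw, rfl⟩
    exact ⟨w.2, hw⟩
  · rintro ⟨h, hc⟩
    exact ⟨⟨z, h⟩, hc, rfl⟩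

theorem zc_le : zc H ≤ H := Subgroup.map_subtype_le _

theorem card_zc : Nat.card (zc H) = Nat.card (Subgroup.center H) :=
  Subgroup.card_map_of_injective H.subtype_injective

theorem ZData.zc_iff (D : ZData a b H) {z : G} (hz1 : z ≠ 1) :
    z ∈ zc H ↔ z ∈ H ∧ orderOf z = 2 := by
  obtain ⟨hiff, -⟩ := Cfsg.Agent.S1137.result D.suzuki_two_group
  rw [mem_zc]
  constructor
  · rintro ⟨h, hc⟩
    obtain ⟨h1, h2⟩ := (hiff ⟨z, h⟩).mpr ⟨hc, fun e => hz1 (congrArg Subtype.val e)⟩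
    exact ⟨h, orderOf_eq_prime (by rw [pow_two]; exact congrArg Subtype.val h2) hz1⟩
  · rintro ⟨h, h2⟩
    refine ⟨h, ((hiff ⟨z, h⟩).mp ⟨fun e => hz1 (congrArg Subtype.val e), Subtype.ext ?_⟩).1⟩
    show z * z = 1
    rw [← pow_two, ← h2, pow_orderOf_eq_one]

theorem ZData.card_center (D : ZData a b H) : Nat.card (zc H) = kk G a b + 1 := by
  classical
  have h1 : Nat.card {x : G // x ∈ H ∧ orderOf x = 2} = Nat.card ((zc H : Set G) \ {1} : Set G) := by
    refine Nat.card_congr (Equiv.subtypeEquivRight fun x => ⟨fun hx => ?_, fun hx => ?_⟩)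
    · have hx1 : x ≠ 1 := fun e => by
        rw [e, orderOf_one] at hx; exact absurd hx.2 (by norm_num)
      exact ⟨(D.zc_iff hx1).mpr hx, hx1⟩
    · exact (D.zc_iff hx.2).mp hx.1
  rw [D.card_involutions, Nat.card_coe_set_eq,
    Set.ncard_sdiff_singleton_of_mem (zc H).one_mem, ← Nat.card_coe_set_eq] at h1
  have h2 : 0 < Nat.card (zc H) := Nat.card_pos
  change _ = Nat.card (zc H) - 1 at h1
  omega

/-- The orders: `|Z| = q = 2 ^ n ≥ 4` and `|H|` is `q ^ 2` or `q ^ 3`. -/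
theorem ZData.orders (D : ZData a b H) :
    ∃ n, 2 ≤ n ∧ kk G a b + 1 = 2 ^ n ∧
      (Nat.card H = (2 ^ n) ^ 2 ∨ Nat.card H = (2 ^ n) ^ 3) := by
  obtain ⟨-, -, hord, -⟩ := Cfsg.Agent.S1138.result D.suzuki_two_group
  obtain ⟨j, hj⟩ := IsPGroup.iff_card.mp (D.hH2.to_subgroup (Subgroup.center H))
  rw [hj] at hord
  have h1 := D.card_center
  rw [card_zc, hj] at h1
  have h3 := D.fdata.three_le_kk
  refine ⟨j, ?_, h1.symm, hord⟩
  by_contra hj2
  have : (2 : ℕ) ^ j ≤ 2 ^ 1 := Nat.pow_le_pow_right two_pos (by omega)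
  omega

theorem ZData.sq_mem (D : ZData a b H) {u : G} (hu : u ∈ H) : u * u ∈ zc H :=
  mem_zc.mpr ⟨H.mul_mem hu hu, (Cfsg.Agent.S1138.result D.suzuki_two_group).1 ⟨u, hu⟩⟩

theorem ZData.commutator_mem (D : ZData a b H) {u v : G} (hu : u ∈ H) (hv : v ∈ H) :
    u⁻¹ * v⁻¹ * u * v ∈ zc H :=
  mem_zc.mpr ⟨H.mul_mem (H.mul_mem (H.mul_mem (H.inv_mem hu) (H.inv_mem hv)) hu) hv,
    (Cfsg.Agent.S1138.result D.suzuki_two_group).2.1 ⟨u, hu⟩ ⟨v, hv⟩⟩

theorem zc_comm {z : G} (hz : z ∈ zc H) {v : G} (hv : v ∈ H) : z * v = v * z := by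
  obtain ⟨h, hc⟩ := mem_zc.mp hz
  exact (congrArg Subtype.val (Subgroup.mem_center_iff.mp hc ⟨v, hv⟩)).symm

/-- The centraliser of a nonidentity central element of the kernel. -/
theorem ZData.cent_iff (D : ZData a b H) {z : G} (hz : z ∈ zc H) (hz1 : z ≠ 1) {c : G} :
    c * z = z * c ↔ c ∈ H :=
  ⟨fun h => D.fdata.cent_mem (zc_le hz) hz1 h, fun h => (zc_comm hz h).symm⟩

theorem ZData.exists_central (D : ZData a b H) : ∃ t ∈ zc H, t ≠ 1 := by
  refine (zc H).bot_or_exists_ne_one.resolve_left fun h => ?_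
  have h1 := D.card_center
  rw [h, Subgroup.card_bot] at h1
  have := D.fdata.three_le_kk
  omega

/-- The point stabiliser is transitive on the nonidentity central elements of the kernel. -/
theorem ZData.zc_trans (D : ZData a b H) {z w : G} (hz : z ∈ zc H) (hz1 : z ≠ 1) (hw : w ∈ zc H)
    (hw1 : w ≠ 1) : ∃ x ∈ stabilizer G a, x * z * x⁻¹ = w := by
  obtain ⟨hzH, hz2⟩ := (D.zc_iff hz1).mp hz
  obtain ⟨hwH, hw2⟩ := (D.zc_iff hw1).mp hw
  obtain ⟨x, hx, -⟩ := D.involutions.2 z hzH hz2 w hwH hw2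
  exact ⟨x, x.2.1, hx⟩

theorem ZData.zc_conj (D : ZData a b H) {g z : G} (hg : g • a = a) (hz : z ∈ zc H) :
    g * z * g⁻¹ ∈ zc H := by
  by_cases hz1 : z = 1
  · simpa [hz1] using (zc H).one_mem
  obtain ⟨hzH, hz2⟩ := (D.zc_iff hz1).mp hz
  refine (D.zc_iff fun e => hz1 (conj_eq_one_iff.mp e)).mpr ⟨D.conj_mem hg hzH, ?_⟩
  rw [← MulAut.conj_apply, MulEquiv.orderOf_eq, hz2]

end CfsgLib.ZassenhausSimple.Suz
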