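import Cfsg.Agent.Lib.ZassenhausSimple.Suzuki.Restrict
import Cfsg.Agent.Lib.ZassenhausSimple.Suzuki.Setup
import Cfsg.Agent.Lib.CharNormal.Kernel

/-!
# A kernel of order `q ^ 3`: the characters of a point stabiliser
-/

set_option autoImplicit false
set_option linter.unusedSectionVars false

namespace CfsgLib.ZassenhausSimple.Suz

open MulAction CfsgLib.Char CfsgLib.Char.Zassenhaus CfsgLib.Classical22.CTK

variable {G Ω : Type*} [Group G] [Fintype G] [MulAction G Ω] [Fintype Ω]
variable {a b : Ω} {H : Subgroup G} [Fintype (stabilizer G a)] [Fintype (Rel G a H)]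

/-- The relevant characters trivial on the centre of the kernel. -/
def Flat (j : Rel G a H) : Prop :=
  ¬ IsRelevant ((zc H).subgroupOf (stabilizer G a)) (th j)

theorem ZData.flat_facts (D : ZData a b H) [DecidablePred (Flat (G := G) (a := a) (H := H))]
    {q : ℕ} (hd : kk G a b + 1 = q) (hh : Nat.card H = q ^ 3) :
    (∀ j : Rel G a H, Flat j → dd b j = 1) ∧
      (∀ (j : Rel G a H) (z : G) (hz : z ∈ zc H), z ≠ 1 →
        th j ⟨z, D.hHa (zc_le hz)⟩ = if Flat j then (kk G a b : ℂ) else -(dd b j : ℂ)) ∧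
      (∀ j : Rel G a H, ∃ i : ℕ, dd b j = 2 ^ i) ∧
      (Finset.univ.filter (fun j : Rel G a H => Flat j)).card = q + 1 ∧
      ∑ j ∈ Finset.univ.filter (fun j : Rel G a H => ¬ Flat j), dd b j ^ 2 = q ^ 2 := by
  classical
  have F := D.fdata
  have hk3 := F.three_le_kk
  have := F.kin_normal
  have := Fintype.ofFinite (kin H a)
  set N := stabilizer G a with hN
  set Zk := (zc H).subgroupOf N with hZk
  have hZn : Zk.Normal := ⟨fun z hz g =>
    Subgroup.mem_subgroupOf.mpr (D.zc_conj (mem_stabilizer_iff.mp g.2)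
      (Subgroup.mem_subgroupOf.mp hz))⟩
  have := Fintype.ofFinite Zk
  have hZle : Zk ≤ kin H a := fun z hz => Subgroup.mem_subgroupOf.mpr (zc_le hz)
  have hcardZ : Nat.card Zk = q := by
    rw [hZk, Nat.card_congr (Subgroup.subgroupOfEquivOfLe (zc_le.trans D.hHa)).toEquiv,
      D.card_center, hd]
  have hdeg : ∀ j : Rel G a H, Flat j → dd b j = 1 := by
    intro j hj
    obtain ⟨ψ, hψ, he⟩ := CfsgLib.CharNormal.exists_irr_eq_comp_mk' Zk (th_irr j)
      ((not_relevant_iff _ _).mp hj)
    have := Fintype.ofFinite (N ⧸ Zk)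
    have hle := degree_le_index_of_comm hψ ((kin H a).map (QuotientGroup.mk' Zk)) (by
      rintro _ ⟨x, hx, rfl⟩ _ ⟨y, hy, rfl⟩
      rw [← map_mul, ← map_mul, QuotientGroup.mk'_eq_mk']
      refine ⟨(x * y)⁻¹ * (y * x), ?_, by group⟩
      refine Subgroup.mem_subgroupOf.mpr ?_
      have := D.commutator_mem (Subgroup.mem_subgroupOf.mp hy) (Subgroup.mem_subgroupOf.mp hx)
      simpa [mul_assoc] using this)
    rw [Subgroup.index_map_eq _ (QuotientGroup.mk'_surjective Zk) (by
      rw [QuotientGroup.ker_mk']; exact hZle), F.index_kin] at hle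
    have h1 : ψ 1 = ((kk G a b * dd b j : ℕ) : ℂ) := by
      rw [show ψ 1 = (ψ ∘ QuotientGroup.mk) (1 : N) from rfl, he, (F.th_one j).1]
      push_cast
      rfl
    rw [h1, Complex.natCast_re, Nat.cast_le] at hle
    have hpos := (F.th_one j).2
    have : dd b j ≤ 1 := Nat.le_of_mul_le_mul_left (by rw [mul_one]; exact hle) (by omega)
    omega
  have hval : ∀ (j : Rel G a H) (z : G) (hz : z ∈ zc H), z ≠ 1 →
      th j ⟨z, D.hHa (zc_le hz)⟩ = if Flat j then (kk G a b : ℂ) else -(dd b j : ℂ) := by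
    intro j z hz hz1
    split_ifs with hj
    · rw [(not_relevant_iff _ _).mp hj ⟨z, D.hHa (zc_le hz)⟩ (Subgroup.mem_subgroupOf.mpr hz),
        (F.th_one j).1, hdeg j hj, Nat.cast_one, mul_one]
    have h0 : Cfsg.classInner (fun x : Zk => th j x) (fun _ => (1 : ℂ)) = 0 := by
      by_contra h
      exact hj ((not_relevant_iff _ _).mpr
        (CfsgLib.CharNormal.res_eq_degree_of_constituent_one Zk (th_irr j) h))
    rw [classInner_def] at h0
    have h0' := (mul_eq_zero.mp h0).resolve_left (inv_ne_zero card_ne_zero')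
    simp only [map_one, mul_one] at h0'
    have hconst : ∀ x : Zk, x ≠ 1 → th j x = th j ⟨z, D.hHa (zc_le hz)⟩ := by
      intro x hx
      obtain ⟨g, hg, hgx⟩ := D.zc_trans hz hz1 (Subgroup.mem_subgroupOf.mp x.2)
        (fun e => hx (Subtype.ext (Subtype.ext e)))
      rw [show (x : N) = ⟨g, hg⟩ * ⟨z, D.hHa (zc_le hz)⟩ * (⟨g, hg⟩ : N)⁻¹ from Subtype.ext hgx.symm]
      exact isClassFunction_of_isIrr (th_irr j) _ _
    rw [← Finset.add_sum_erase _ _ (Finset.mem_univ (1 : Zk)),
      Finset.sum_congr rfl (fun x hx => hconst x (Finset.ne_of_mem_erase hx)), Finset.sum_const,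
      Finset.card_erase_of_mem (Finset.mem_univ _), Finset.card_univ, ← Nat.card_eq_fintype_card,
      hcardZ, show q - 1 = kk G a b by omega, nsmul_eq_mul, OneMemClass.coe_one,
      (F.th_one j).1] at h0'
    have hk : (kk G a b : ℂ) ≠ 0 := by exact_mod_cast (by omega : kk G a b ≠ 0)
    refine mul_left_cancel₀ hk ?_
    linear_combination h0'
  have hpow : ∀ j : Rel G a H, ∃ i : ℕ, dd b j = 2 ^ i := by
    intro j
    obtain ⟨d', -, hdvd, hd'⟩ := exists_relevant_degree (kin H a) F.cent_kin (th_irr j) j.2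
    rw [F.index_kin, (F.th_one j).1, Nat.cast_mul] at hd'
    have : dd b j = d' := by
      have hk : (kk G a b : ℂ) ≠ 0 := by exact_mod_cast (by omega : kk G a b ≠ 0)
      exact_mod_cast mul_left_cancel₀ hk hd'
    obtain ⟨k, -, hk⟩ := D.exists_two_pow
    rw [F.card_kin, hk] at hdvd
    obtain ⟨i, -, hi⟩ := (Nat.dvd_prime_pow Nat.prime_two).mp hdvd
    exact ⟨i, this.trans hi⟩
  have hindex : Zk.index = q ^ 2 * kk G a b := by
    have h := Zk.card_mul_index
    rw [hcardZ, F.card_point, hh] at h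
    exact Nat.eq_of_mul_eq_mul_left (by omega) (h.trans (by ring))
  have hs : (Finset.univ.filter (fun j : Rel G a H => Flat j)).card = q + 1 := by
    have h := sum_degree_sq_not_relevant Zk
    rw [hindex, Finset.sum_filter, sum_split (H := H)] at h
    rw [Finset.sum_congr rfl (g := fun _ => (1 : ℂ)) (fun χ hχ => by
        rw [if_pos, F.nonrel_one χ.2 (Finset.mem_filter.mp hχ).2, one_pow]
        exact (not_relevant_iff _ _).mpr fun z hz =>
          (not_relevant_iff _ _).mp (Finset.mem_filter.mp hχ).2 z (hZle hz)),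
      Finset.sum_const, nsmul_one, F.card_nonrel,
      Finset.sum_congr rfl (g := fun j : Rel G a H => if Flat j then (kk G a b : ℂ) ^ 2 else 0)
        (fun j _ => by
          by_cases hj : Flat j
          · rw [if_pos hj, if_pos (show ¬ IsRelevant Zk (j.1 : N → ℂ) from hj),
              show (j.1 : N → ℂ) 1 = th j 1 from rfl, (F.th_one j).1, hdeg j hj, Nat.cast_one, mul_one]
          · rw [if_neg hj, if_neg (show ¬ ¬ IsRelevant Zk (j.1 : N → ℂ) from hj)]),
      ← Finset.sum_filter, Finset.sum_const, nsmul_eq_mul] at h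
    have h' : kk G a b + (Finset.univ.filter (fun j : Rel G a H => Flat j)).card * kk G a b ^ 2 =
        q ^ 2 * kk G a b := by exact_mod_cast h
    subst hd
    refine Nat.eq_of_mul_eq_mul_right (show 0 < kk G a b ^ 2 by positivity) ?_
    nlinarith [h']
  refine ⟨hdeg, hval, hpow, hs, ?_⟩
  have h := F.card_eq
  rw [hh, RR, ← Finset.sum_filter_add_sum_filter_not Finset.univ (fun j : Rel G a H => Flat j),
    Finset.sum_congr rfl (g := fun _ => 1) (fun j hj => by
      rw [hdeg j (Finset.mem_filter.mp hj).2, one_pow]), ← Finset.card_eq_sum_ones, hs] at h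
  subst hd
  refine Nat.eq_of_mul_eq_mul_right (show 0 < kk G a b by omega) ?_
  nlinarith [h]

end CfsgLib.ZassenhausSimple.Suz
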