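import Cfsg.Agent.Lib.ZassenhausSimple.Suzuki.Count
import Cfsg.Agent.S1139

/-!
# Simple Zassenhaus groups with a Suzuki 2-group as kernel: the tori normalised by an involution
-/

set_option autoImplicit false
set_option linter.unusedSectionVars false

namespace CfsgLib.ZassenhausSimple.Suz

open MulAction CfsgLib.Char CfsgLib.Char.Zassenhaus CfsgLib.Classical22.CTK

/-- In a 2-group of type A no four-group of cosets has a constant nontrivial square. -/
theorem no_quaternion {P : Type*} [Group P] (hP : Cfsg.IsSuzukiTwoGroup P)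
    (hcard : Nat.card P = Nat.card (Subgroup.center P) ^ 2) {u v t : P} (ht : t ≠ 1)
    (hu : u * u = t) (hv : v * v = t) (huv : u * v * (u * v) = t) : False := by
  obtain ⟨F, _, _, φ, hF, hφ, hodd, ⟨e⟩⟩ := Cfsg.Agent.S1139.result hP hcard
  obtain ⟨X, Y, mk, hX, hY, hmk, hinv⟩ := Cfsg.Agent.S1139.typeA_coords (φ : F →+* F)
  have := hP.1
  obtain ⟨k, hk⟩ := IsPGroup.iff_card.mp (hP.2.1.to_subgroup (Subgroup.center P))
  have h2 : ((2 : ℕ) : F) = 0 := by
    have h := Nat.cast_card_eq_zero (R := F)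
    rw [hF, hk, Nat.cast_pow] at h
    exact eq_zero_of_pow_eq_zero h
  have hadd : ∀ x : F, x + x = 0 := fun x => by
    calc x + x = ((2 : ℕ) : F) * x := by push_cast; ring
      _ = 0 := by rw [h2, zero_mul]
  have hX1 : X 1 = 0 := by simpa using hX 1 1
  have hY1 : Y 1 = 0 := by simpa [hX1] using hY 1 1
  have hsq : ∀ w : P, w * w = t →
      X (e t) = 0 ∧ Y (e t) = φ (X (e w)) * X (e w) := by
    intro w hw
    rw [← hw, map_mul, hX, hY, hadd, hadd, zero_add]
    exact ⟨rfl, rfl⟩
  obtain ⟨hXt, hu'⟩ := hsq u hu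
  obtain ⟨-, hv'⟩ := hsq v hv
  obtain ⟨-, huv'⟩ := hsq (u * v) huv
  rw [map_mul, hX, map_add] at huv'
  set x := X (e u)
  set y := X (e v)
  set τ := Y (e t)
  have hτ : τ ≠ 0 := fun h => ht (e.injective (by
    rw [map_one, ← hinv (e t), ← hinv 1, hXt, hX1, hY1]
    exact congrArg (mk 0) h))
  have hx : x ≠ 0 := fun h => hτ (by rw [hu', h, mul_zero])
  have hφx : φ x ≠ 0 := fun h => hx (φ.injective (by rw [h, map_zero]))
  obtain ⟨z, hz⟩ : ∃ z, z = y / x := ⟨_, rfl⟩
  have h1 : φ z * z = 1 := by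
    rw [hz, map_div₀, div_mul_div_comm, ← hv', hu']
    exact div_self (mul_ne_zero hφx hx)
  have h3 : φ z + z + 1 = 0 := by
    rw [hz, map_div₀]
    field_simp
    linear_combination hv' - huv'
  have hstep : φ (φ z) = z := by
    have h4 : φ (φ z) + φ z + 1 = 0 := by
      have := congrArg φ h3
      rwa [map_add, map_add, map_one, map_zero] at this
    linear_combination h4 - h3
  have hfix : φ z = z := by
    obtain ⟨j, hj⟩ := hodd
    have hiter : ∀ i : ℕ, (φ ^ (2 * i)) z = z := by
      intro i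
      induction i with
      | zero => simp
      | succ i ih =>
        rw [show 2 * (i + 1) = 1 + (1 + 2 * i) by ring, pow_add, pow_add, pow_one]
        show φ (φ ((φ ^ (2 * i)) z)) = z
        rw [ih, hstep]
    have h5 : (φ ^ (2 * j + 1)) z = z := by rw [← hj, pow_orderOf_eq_one]; rfl
    rw [pow_succ'] at h5
    change φ ((φ ^ (2 * j)) z) = z at h5
    rwa [hiter] at h5
  rw [hfix, hadd, zero_add] at h3
  exact one_ne_zero h3

variable {G Ω : Type*} [Group G] [Fintype G] [MulAction G Ω] [Fintype Ω]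
variable {a b : Ω} {H : Subgroup G}

/-- The normaliser of a torus in the kernel. -/
def wt (H C : Subgroup G) : Subgroup G := H ⊓ Subgroup.normalizer (C : Set G)

/-- An inverted fixed-point-free element with its centraliser: the normaliser in the kernel has
order two or four and acts semiregularly on the centraliser. -/
theorem ZData.weight (D : ZData a b H) (hsq : Nat.card H = Nat.card (zc H) ^ 2) {t x : G}
    (htz : t ∈ zc H) (ht1 : t ≠ 1) (hx : SR Ω x) (htx : t * x * t = x⁻¹) :
    (Nat.card (wt H (Subgroup.centralizer {x})) = 2 ∨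
        Nat.card (wt H (Subgroup.centralizer {x})) = 4) ∧
      Nat.card (wt H (Subgroup.centralizer {x})) ∣ Nat.card (Subgroup.centralizer {x}) - 1 := by
  classical
  obtain ⟨htH, ht2⟩ := (D.zc_iff ht1).mp htz
  have htt : t * t = 1 := by rw [← pow_two, ← ht2, pow_orderOf_eq_one]
  have hti : t⁻¹ = t := inv_eq_of_mul_eq_one_right htt
  set C := Subgroup.centralizer ({x} : Set G) with hC
  set W := wt H C with hW
  have hconjmem : ∀ g ∈ W, ∀ c ∈ C, g * c * g⁻¹ ∈ C := fun g hg c hc =>
    ((Subgroup.mem_normalizer_iff.mp hg.2) c).mp hc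
  -- no nonidentity element of `W` centralises one of `C`
  have hfree : ∀ g ∈ W, g ≠ 1 → ∀ c ∈ C, g * c = c * g → c = 1 := by
    intro g hg hg1 c hc h
    by_contra hc1
    have hgC : g ∈ C := by
      rw [hC, ← D.cent_eq hx ht2 htx hc hc1, Subgroup.mem_centralizer_singleton_iff]
      exact h
    obtain ⟨j, hj⟩ := IsPGroup.iff_orderOf.mp D.hH2 ⟨g, hg.1⟩
    rw [← Subgroup.orderOf_coe] at hj
    have hodd := (D.cent_odd hx).of_dvd_nat (Subgroup.orderOf_dvd_natCard _ hgC)
    change Odd (orderOf g) at hodd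
    rw [hj] at hodd
    rcases Nat.eq_zero_or_pos j with rfl | hj0
    · exact hg1 (orderOf_eq_one_iff.mp (by simpa using hj))
    · exact Nat.not_even_iff_odd.mpr hodd (Nat.even_pow.mpr ⟨even_two, hj0.ne'⟩)
  have htW : t ∈ W := by
    refine ⟨htH, Subgroup.mem_normalizer_iff.mpr fun c => ⟨fun hc => ?_, fun hc => ?_⟩⟩
    · rw [hti, D.inverts hx ht2 htx hc]
      exact C.inv_mem hc
    · rw [hti] at hc
      have := D.inverts hx ht2 htx hc
      rw [show t * (t * c * t) * t = (t * t) * c * (t * t) by group, htt, one_mul, mul_one]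
        at this
      rw [this]
      exact C.inv_mem hc
  -- the involution is unique
  have hinvol : ∀ g ∈ W, g * g = 1 → g ≠ 1 → g = t := by
    intro g hg hgg hg1
    have hinv : g * x * g = x⁻¹ := CfsgLib.PronormalPSL.inverts_of_fpf (A := C) hgg
      (fun c hc => by
        have := hconjmem g hg c hc
        rwa [inv_eq_of_mul_eq_one_right hgg] at this) (hfree g hg hg1) x
      (Subgroup.mem_centralizer_singleton_iff.mpr rfl)
    by_contra hne
    refine sr_ne_one a hx (hfree (g * t) (W.mul_mem hg htW) (fun e => hne ?_) x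
      (Subgroup.mem_centralizer_singleton_iff.mpr rfl) ?_)
    · rw [← hti]; exact eq_inv_of_mul_eq_one_left e
    · calc g * t * x = g * (t * x * t) * t := by
            rw [show g * (t * x * t) * t = g * t * x * (t * t) by group, htt, mul_one]
        _ = g * x⁻¹ * t := by rw [htx]
        _ = g * (g * x * g) * t := by rw [hinv]
        _ = x * (g * t) := by rw [show g * (g * x * g) * t = g * g * x * (g * t) by group, hgg, one_mul]
  have hsquare : ∀ g ∈ W, g ≠ 1 → g ≠ t → g * g = t := by
    intro g hg hg1 hgt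
    refine hinvol _ (W.mul_mem hg hg) ?_ fun e => hgt (hinvol g hg e hg1)
    by_cases h1 : g * g = 1
    · rw [h1, one_mul]
    · have h2 := ((D.zc_iff h1).mp (D.sq_mem hg.1)).2
      rw [← pow_two, ← h2, pow_orderOf_eq_one]
  have hcases : Nat.card W = 2 ∨ Nat.card W = 4 := by
    rw [Nat.card_eq_fintype_card, ← Finset.card_univ]
    by_cases hex : ∃ u ∈ W, u ≠ 1 ∧ u ≠ t
    · obtain ⟨u, hu, hu1, hut⟩ := hex
      right
      have hu1' : u * t ≠ 1 := fun e => hut (by rw [← hti]; exact eq_inv_of_mul_eq_one_left e)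
      have hut' : u * t ≠ t := fun e => hu1 (mul_eq_right.mp e)
      have huu : u * t ≠ u := fun e => ht1 (mul_eq_left.mp e)
      rw [show (Finset.univ : Finset W) = {1, ⟨t, htW⟩, ⟨u, hu⟩, ⟨u * t, W.mul_mem hu htW⟩} from ?_]
      · rw [Finset.card_insert_of_notMem, Finset.card_insert_of_notMem, Finset.card_pair]
        · exact fun e => huu (congrArg Subtype.val e).symm
        · simp only [Finset.mem_insert, Finset.mem_singleton, Subtype.mk.injEq]
          rintro (e | e)
          · exact hut e.symm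
          · exact hut' e.symm
        · simp only [Finset.mem_insert, Finset.mem_singleton, Subtype.ext_iff, Subgroup.coe_one]
          rintro (e | e | e)
          · exact ht1 e.symm
          · exact hu1 e.symm
          · exact hu1' e.symm
      · refine (Finset.eq_univ_iff_forall.mpr fun v => ?_).symm
        obtain ⟨v, hv⟩ := v
        simp only [Finset.mem_insert, Finset.mem_singleton, Subtype.ext_iff, Subgroup.coe_one]
        by_contra hcon
        push Not at hcon
        obtain ⟨hv1, hvt, hvu, hvut⟩ := hcon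
        have huv1 : u * v ≠ 1 := fun e => hvut (by
          have hv' : v = u⁻¹ := eq_inv_of_mul_eq_one_right e
          rw [hv', inv_eq_iff_mul_eq_one, ← mul_assoc, hsquare u hu hu1 hut, htt])
        have huvt : u * v ≠ t := fun e => hvu (mul_left_cancel (e.trans (hsquare u hu hu1 hut).symm))
        refine no_quaternion D.suzuki_two_group (by rw [hsq, card_zc]) (t := ⟨t, htH⟩)
          (u := ⟨u, hu.1⟩) (v := ⟨v, hv.1⟩) (fun e => ht1 (congrArg Subtype.val e))
          (Subtype.ext (hsquare u hu hu1 hut)) (Subtype.ext (hsquare v hv hv1 hvt))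
          (Subtype.ext (hsquare _ (W.mul_mem hu hv) huv1 huvt))
    · left
      push Not at hex
      rw [show (Finset.univ : Finset W) = {1, ⟨t, htW⟩} from ?_, Finset.card_pair]
      · exact fun e => ht1 (congrArg Subtype.val e).symm
      · refine (Finset.eq_univ_iff_forall.mpr fun v => ?_).symm
        simp only [Finset.mem_insert, Finset.mem_singleton]
        by_cases hv1 : v = 1
        · exact Or.inl hv1
        · exact Or.inr (Subtype.ext (hex v v.2 fun e => hv1 (Subtype.ext e)))
  refine ⟨hcases, ?_⟩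
  have h := Cfsg.Agent.S0738.dvd_card_invariant W ((C : Set G) \ {1})
    (fun g hg c hc => ⟨hconjmem g hg c hc.1, fun h1 => hc.2 (conj_eq_one_iff.mp h1)⟩)
    (fun g hg c hc h1 => by
      by_contra hg1
      exact hc.2 (hfree g hg hg1 c hc.1 (mul_inv_eq_iff_eq_mul.mp h1)))
  rwa [Nat.card_coe_set_eq, Set.ncard_sdiff_singleton_of_mem C.one_mem, ← Nat.card_coe_set_eq] at h

/-- Two tori of the same order normalised by the involution are conjugate in the kernel. -/
theorem ZData.tori_conj (D : ZData a b H) {t x y : G}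
    (htz : t ∈ zc H) (ht1 : t ≠ 1) (hx : SR Ω x) (htx : t * x * t = x⁻¹) (hy : SR Ω y)
    (hty : t * y * t = y⁻¹) (hc : Nat.card (Subgroup.centralizer {x}) =
      Nat.card (Subgroup.centralizer {y})) :
    ∃ g ∈ H, g * y * g⁻¹ ∈ Subgroup.centralizer {x} := by
  classical
  obtain ⟨htH, ht2⟩ := (D.zc_iff ht1).mp htz
  have htt : t * t = 1 := by rw [← pow_two, ← ht2, pow_orderOf_eq_one]
  have hne1 : Nat.card (Subgroup.centralizer {x}) ≠ 1 := fun h => sr_ne_one a hx (by
    have hm : x ∈ Subgroup.centralizer {x} := Subgroup.mem_centralizer_singleton_iff.mpr rfl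
    rwa [Subgroup.card_eq_one.mp h, Subgroup.mem_bot] at hm)
  obtain ⟨p, hp, hpd⟩ := Nat.exists_prime_and_dvd hne1
  obtain ⟨g, hg⟩ := D.common_prime ⟨hx, t, ht2, htx⟩ hy hp hpd (hc ▸ hpd)
  set C := Subgroup.centralizer ({x} : Set G) with hC
  set z := g * y * g⁻¹ with hz
  have hzs : SR Ω z := sr_conj g hy
  have hzC : Subgroup.centralizer {z} = C := D.cent_eq hx ht2 htx hg (sr_ne_one a hzs)
  set s := g * t * g⁻¹ with hs
  have hs2 : orderOf s = 2 := by rw [hs, ← MulAut.conj_apply, MulEquiv.orderOf_eq, ht2]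
  have hsz : s * z * s = z⁻¹ := by
    calc g * t * g⁻¹ * (g * y * g⁻¹) * (g * t * g⁻¹) = g * (t * y * t) * g⁻¹ := by group
      _ = z⁻¹ := by rw [hty, hz]; group
  -- `t * s` lies in the torus
  have htsC : t * s ∈ C := by
    rw [← hzC, Subgroup.mem_centralizer_singleton_iff]
    have h1 := D.inverts hx ht2 htx (C.inv_mem hg)
    rw [inv_inv] at h1
    have hss : s * s = 1 := by rw [← pow_two, ← hs2, pow_orderOf_eq_one]
    calc t * s * z = t * (s * z * s) * s := by
          rw [show t * (s * z * s) * s = t * s * z * (s * s) by group, hss, mul_one]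
      _ = (t * z⁻¹ * t) * (t * s) := by
          rw [hsz, show t * z⁻¹ * t * (t * s) = t * z⁻¹ * (t * t) * s by group, htt, mul_one]
      _ = z * (t * s) := by rw [h1]
  obtain ⟨j, hj⟩ := (D.cent_odd hx).of_dvd_nat (Subgroup.orderOf_dvd_natCard _ htsC)
  set r := (t * s) ^ (j + 1) with hr
  have hrC : r ∈ C := C.pow_mem htsC _
  have hr2 : r * r = t * s := by
    rw [hr, ← pow_add, show j + 1 + (j + 1) = orderOf (t * s) + 1 by omega, pow_succ,
      pow_orderOf_eq_one, one_mul]
  have hrt : t * r * t = r⁻¹ := D.inverts hx ht2 htx hrC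
  refine ⟨r * g, (D.cent_iff htz ht1).mp ?_, ?_⟩
  · have h1 : r * s * r⁻¹ = t := by
      have hsr : s = t * (r * r) := by rw [hr2, ← mul_assoc, htt, one_mul]
      rw [hsr]
      calc r * (t * (r * r)) * r⁻¹ = r * (t * r * t) * t⁻¹ := by group
        _ = t⁻¹ := by rw [hrt]; group
        _ = t := inv_eq_of_mul_eq_one_right htt
    calc r * g * t = r * (g * t * g⁻¹) * r⁻¹ * (r * g) := by group
      _ = t * (r * g) := by rw [h1]
  · have h := D.cent_comm hx ht2 htx hrC hg
    rw [show r * g * y * (r * g)⁻¹ = r * z * r⁻¹ by rw [hz]; group, h]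
    simpa using hg

/-- The inverted elements with a given torus order, grouped in `[H : W]` tori. -/
theorem ZData.fibre (D : ZData a b H) {t x : G} (htz : t ∈ zc H) (ht1 : t ≠ 1) (hx : SR Ω x)
    (htx : t * x * t = x⁻¹) :
    Nat.card {y : G // (SR Ω y ∧ t * y * t = y⁻¹) ∧
        Nat.card (Subgroup.centralizer {y}) = Nat.card (Subgroup.centralizer {x})} *
      Nat.card (wt H (Subgroup.centralizer {x})) =
    Nat.card H * (Nat.card (Subgroup.centralizer {x}) - 1) := by
  classical
  obtain ⟨htH, ht2⟩ := (D.zc_iff ht1).mp htz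
  set C := Subgroup.centralizer ({x} : Set G) with hC
  set W := wt H C with hW
  set T := {y : G // (SR Ω y ∧ t * y * t = y⁻¹) ∧
    Nat.card (Subgroup.centralizer {y}) = Nat.card C}
  -- the pairs `(h, c)` map onto `T` with fibres of the order of `W`
  have hmem : ∀ (h : H) (c : G), c ∈ C → c ≠ 1 →
      (SR Ω ((h : G) * c * (h : G)⁻¹) ∧
        t * ((h : G) * c * (h : G)⁻¹) * t = ((h : G) * c * (h : G)⁻¹)⁻¹) ∧
      Nat.card (Subgroup.centralizer {(h : G) * c * (h : G)⁻¹}) = Nat.card C := by
    intro h c hc hc1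
    refine ⟨⟨sr_conj _ (D.cent_sr hx (Subgroup.mem_centralizer_singleton_iff.mp hc) hc1), ?_⟩, ?_⟩
    · have h1 := D.inverts hx ht2 htx hc
      have h2 := zc_comm htz h.2
      have h3 := zc_comm htz (H.inv_mem h.2)
      calc t * ((h : G) * c * (h : G)⁻¹) * t = (t * h) * c * ((h : G)⁻¹ * t) := by group
        _ = (h * t) * c * (t * (h : G)⁻¹) := by rw [h2, h3]
        _ = h * (t * c * t) * (h : G)⁻¹ := by group
        _ = _ := by rw [h1]; group
    · rw [card_cent_conj, D.cent_eq hx ht2 htx hc hc1]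
  let f : H × {c : C // c ≠ 1} → T := fun p =>
    ⟨(p.1 : G) * ((p.2 : C) : G) * (p.1 : G)⁻¹,
      hmem p.1 _ (p.2 : C).2 fun e => p.2.2 (Subtype.ext e)⟩
  have hfib : ∀ y : T, Nat.card {p // f p = y} = Nat.card W := by
    intro y
    obtain ⟨g, hg, hgy⟩ := D.tori_conj htz ht1 hx htx y.2.1.1 y.2.1.2 y.2.2.symm
    refine (Nat.card_congr (Equiv.ofBijective
      (fun w : W => (⟨(⟨g⁻¹ * w, H.mul_mem (H.inv_mem hg) w.2.1⟩,
        ⟨⟨(w : G)⁻¹ * (g * y * g⁻¹) * w, ?_⟩, ?_⟩), ?_⟩ : {p // f p = y}))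
      ⟨fun w w' e => Subtype.ext (mul_left_cancel
        (congrArg (fun p : {p // f p = y} => (p.1.1 : G)) e)), fun p => ?_⟩)).symm
    · have := ((Subgroup.mem_normalizer_iff.mp (W.inv_mem w.2).2) (g * y * g⁻¹)).mp hgy
      simpa using this
    · intro e
      have e' : (w : G)⁻¹ * (g * y * g⁻¹) * w = 1 := congrArg Subtype.val e
      exact sr_ne_one a y.2.1.1 (by
        calc (y : G) = g⁻¹ * w * ((w : G)⁻¹ * (g * y * g⁻¹) * w) * (g⁻¹ * w)⁻¹ := by group
          _ = 1 := by rw [e']; group)
    · refine Subtype.ext ?_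
      show g⁻¹ * (w : G) * ((w : G)⁻¹ * (g * y * g⁻¹) * w) * (g⁻¹ * w)⁻¹ = y
      group
    · obtain ⟨⟨h, c, hc1⟩, hp⟩ := p
      have hp' : (h : G) * c * (h : G)⁻¹ = y := congrArg Subtype.val hp
      have hc1' : (c : G) ≠ 1 := fun e => hc1 (Subtype.ext e)
      have hcen : C.map (MulAut.conj (g * h)).toMonoidHom = C := by
        have h1 : g * h * (c : G) * (g * h)⁻¹ = g * y * g⁻¹ := by rw [← hp']; group
        conv_lhs => rw [hC, ← D.cent_eq hx ht2 htx c.2 hc1']
        rw [cent_conj, h1]
        exact D.cent_eq hx ht2 htx hgy fun e => sr_ne_one a y.2.1.1 (conj_eq_one_iff.mp e)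
      have hgh : g * h ∈ W := ⟨H.mul_mem hg h.2, Subgroup.mem_normalizer_iff.mpr fun e =>
        ⟨fun he => hcen ▸ ⟨e, he, rfl⟩, fun he => by
          rw [← hcen] at he
          obtain ⟨e', he', heq⟩ := he
          rwa [← show e' = e from (MulAut.conj (g * h)).injective heq]⟩⟩
      refine ⟨⟨g * h, hgh⟩, Subtype.ext (Prod.ext (Subtype.ext ?_) (Subtype.ext (Subtype.ext ?_)))⟩
      · show g⁻¹ * (g * (h : G)) = h
        group
      · show (g * (h : G))⁻¹ * (g * y * g⁻¹) * (g * h) = c
        rw [← hp']; group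
  have : Fintype T := Fintype.ofFinite T
  have hC1 : Nat.card {c : C // c ≠ 1} = Nat.card C - 1 := by
    rw [Nat.card_eq_fintype_card, Nat.card_eq_fintype_card, Fintype.card_subtype_compl,
      Fintype.card_subtype_eq]
  rw [← hC1]
  calc Nat.card T * Nat.card W = ∑ y : T, Nat.card {p // f p = y} := by
        rw [Finset.sum_congr rfl fun y _ => hfib y, Finset.sum_const, Finset.card_univ,
          smul_eq_mul, Nat.card_eq_fintype_card (α := T)]
    _ = Nat.card H * Nat.card {c : C // c ≠ 1} := by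
        rw [← Nat.card_sigma, Nat.card_congr (Equiv.sigmaFiberEquiv f), Nat.card_prod]

end CfsgLib.ZassenhausSimple.Suz
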