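import Cfsg.Agent.Lib.Classical22.CTKernelLocal
import Cfsg.Agent.Lib.OddChar.IrrKernel

/-!
# Zassenhaus groups with a large kernel: the characters of a point stabiliser

`FData`: a simple Zassenhaus group on `h + 1` points with two-point stabilisers of odd order `e`,
`2 e < h - 1`. The point stabiliser is a Frobenius group with nilpotent kernel `H`; its characters
nontrivial on `H` have degrees `e * dd j`, one of them `e`, and `h = (∑ dd j ^ 2) e + 1`.
-/

set_option autoImplicit false
set_option linter.unusedSectionVars false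

namespace CfsgLib.ZassenhausSimple.Suz

open MulAction CfsgLib.Char CfsgLib.Char.Zassenhaus CfsgLib.Classical22.CTK
open scoped ComplexConjugate

variable {G Ω : Type*} [Group G] [Fintype G] [MulAction G Ω] [Fintype Ω]

/-- The standing hypotheses. -/
structure FData (a b : Ω) (H : Subgroup G) : Prop where
  hZ : Cfsg.IsZassenhausGroup G Ω
  simple : IsSimpleGroup G
  hab : a ≠ b
  hodd : Odd (Nat.card ↥(stabilizer G a ⊓ stabilizer G b : Subgroup G))
  hHa : H ≤ stabilizer G a
  hHcard : Nat.card H + 1 = Fintype.card Ω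
  hHfix : ∀ v ∈ H, v ≠ 1 → ∀ c : Ω, v • c = c → c = a
  hlt : 2 * kk G a b < Nat.card H - 1

variable {a b : Ω} {H : Subgroup G}

theorem FData.three_le_kk (D : FData a b H) : 3 ≤ kk G a b := three_le_of_odd D.hZ D.hab D.hodd

theorem FData.ti (D : FData a b H) {g : G} (hg : g ∉ stabilizer G a) {v : G} (hv : v ∈ H)
    (h : g * v * g⁻¹ ∈ H) : v = 1 :=
  (Cfsg.Agent.S0878.result D.hZ a H D.hHa D.hHcard D.hHfix).1 g hg v hv h

/-- The centralizer of a nonidentity element of the kernel lies in the kernel. -/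
theorem FData.cent_mem (D : FData a b H) {v : G} (hv : v ∈ H) (hv1 : v ≠ 1) {c : G}
    (hc : c * v = v * c) : c ∈ H := by
  have hca : c • a = a := by
    refine D.hHfix v hv hv1 _ ?_
    rw [← mul_smul, ← hc, mul_smul, mem_stabilizer_iff.mp (D.hHa hv)]
  by_contra hcH
  obtain ⟨w, hw, y, hy, hy1, rfl⟩ :=
    exists_conj_mem D.hZ D.hab D.hHa D.hHcard D.hHfix (mem_stabilizer_iff.mpr hca) hcH
  have h3 : w⁻¹ * v * w ∈ H ⊓ Subgroup.centralizer ({y} : Set G) :=
    ⟨H.mul_mem (H.mul_mem (H.inv_mem hw) hv) hw, Subgroup.mem_centralizer_singleton_iff.mpr (by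
      calc w⁻¹ * v * w * y = w⁻¹ * (v * (w * y * w⁻¹)) * w := by group
        _ = w⁻¹ * (w * y * w⁻¹ * v) * w := by rw [hc]
        _ = y * (w⁻¹ * v * w) := by group)⟩
  rw [fpf D.hZ D.hab D.hHa D.hHfix y hy hy1, Subgroup.mem_bot] at h3
  exact hv1 (by
    calc v = w * (w⁻¹ * v * w) * w⁻¹ := by group
      _ = 1 := by rw [h3]; group)

theorem FData.kin_normal (D : FData a b H) : (kin H a).Normal :=
  ⟨fun v hv g => Subgroup.mem_subgroupOf.mpr (by
    simpa using conj_mem_kernel D.hZ D.hab D.hHa D.hHcard D.hHfix g.2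
      (Subgroup.mem_subgroupOf.mp hv))⟩

theorem FData.card_kin (D : FData a b H) : Nat.card (kin H a) = Nat.card H :=
  Nat.card_congr (Subgroup.subgroupOfEquivOfLe D.hHa).toEquiv

theorem FData.card_point (D : FData a b H) :
    Nat.card (stabilizer G a) = Nat.card H * kk G a b := by
  have h1 := card_stabilizer_mul D.hZ a
  rw [← card_group D.hZ D.hab, ← D.hHcard, Nat.add_sub_cancel, mul_assoc] at h1
  exact Nat.eq_of_mul_eq_mul_left (by omega) h1

theorem FData.index_kin (D : FData a b H) : (kin H a).index = kk G a b := by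
  have h := (kin H a).card_mul_index
  rw [D.card_kin, D.card_point] at h
  exact Nat.eq_of_mul_eq_mul_left Nat.card_pos h

theorem FData.cent_kin (D : FData a b H) :
    ∀ v ∈ kin H a, v ≠ 1 → Subgroup.centralizer ({v} : Set (stabilizer G a)) ≤ kin H a := by
  intro v hv hv1 c hc
  rw [Subgroup.mem_centralizer_singleton_iff] at hc
  exact Subgroup.mem_subgroupOf.mpr (D.cent_mem (Subgroup.mem_subgroupOf.mp hv)
    (fun e => hv1 (Subtype.ext e)) (congrArg Subtype.val hc))

theorem FData.card_cent (D : FData a b H) {v : stabilizer G a} (hv : (v : G) ∈ H)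
    (hv1 : (v : G) ≠ 1) :
    Nat.card (Subgroup.centralizer ({v} : Set (stabilizer G a))) =
      Nat.card (Subgroup.centralizer ({(v : G)} : Set G)) := by
  refine Nat.card_congr
    { toFun := fun c => ⟨(c : stabilizer G a), Subgroup.mem_centralizer_singleton_iff.mpr
        (congrArg Subtype.val (Subgroup.mem_centralizer_singleton_iff.mp c.2))⟩
      invFun := fun c => ⟨⟨c, D.hHa (D.cent_mem hv hv1
          (Subgroup.mem_centralizer_singleton_iff.mp c.2))⟩,
        Subgroup.mem_centralizer_singleton_iff.mpr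
          (Subtype.ext (Subgroup.mem_centralizer_singleton_iff.mp c.2))⟩
      left_inv := fun c => rfl
      right_inv := fun c => rfl }

/-- The commutators of the point stabiliser lie in the kernel. -/
theorem FData.commutator_mem (D : FData a b H) (x y : stabilizer G a) :
    x⁻¹ * y⁻¹ * x * y ∈ kin H a := by
  have := D.simple
  obtain ⟨π, hπ, hπH⟩ := exists_retraction D.hZ D.hab D.hHa D.hHcard D.hHfix
  obtain ⟨s, -, hsa, hsb⟩ := exists_swap D.hZ D.hab D.hodd
  obtain ⟨-, hE⟩ := swap_inverts D.hZ D.hab D.hodd hsa hsb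
  have hker : ∀ z : stabilizer G a, π z = 1 → (z : G) ∈ H := by
    intro z hz
    obtain ⟨v, hv, e, he, hze⟩ := decompose D.hZ D.hab D.hHa D.hHcard D.hHfix z.2
    have hz' : z = (⟨v, D.hHa hv⟩ : stabilizer G a) * ⟨e, he.1⟩ := Subtype.ext hze
    rw [hz', map_mul, hπH ⟨v, D.hHa hv⟩ hv, one_mul, hπ ⟨e, he.1⟩ he] at hz
    rw [hze, show e = 1 from congrArg Subtype.val hz, mul_one]
    exact hv
  refine Subgroup.mem_subgroupOf.mpr (hker _ ?_)
  simp only [map_mul, map_inv]
  have h : π x * π y = π y * π x := Subtype.ext (hE _ (π x).2 _ (π y).2)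
  calc (π x)⁻¹ * (π y)⁻¹ * π x * π y = (π x)⁻¹ * (π y)⁻¹ * (π x * π y) := by group
    _ = 1 := by rw [h]; group

variable [Fintype (stabilizer G a)]

theorem FData.nonrel_one (D : FData a b H)
    {χ : stabilizer G a → ℂ} (hχ : Cfsg.IsIrrCharacter (stabilizer G a) χ)
    (hn : ¬ IsRelevant (kin H a) χ) : χ 1 = 1 := by
  have := D.kin_normal
  classical
  obtain ⟨ψ, hψ⟩ := (CfsgLib.CharNormal.inflEquiv (kin H a)).surjective
    ⟨⟨χ, hχ⟩, (not_relevant_iff _ _).mp hn⟩
  have he : χ = ((CfsgLib.CharNormal.inflEquiv (kin H a) ψ).1 : stabilizer G a → ℂ) := by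
    rw [hψ]
  rw [he, CfsgLib.CharNormal.inflEquiv_apply, QuotientGroup.mk_one]
  have := Fintype.ofFinite (stabilizer G a ⧸ kin H a)
  refine irr_one_eq_one_of_comm (fun q r => ?_) ψ.2
  induction q using QuotientGroup.induction_on with | H x =>
  induction r using QuotientGroup.induction_on with | H y =>
  rw [← QuotientGroup.mk_mul, ← QuotientGroup.mk_mul, QuotientGroup.eq]
  simpa [mul_assoc] using D.commutator_mem y x

theorem FData.nonrel_val (D : FData a b H) {χ : Cfsg.IrrCharacter (stabilizer G a)}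
    (hn : ¬ IsRelevant (kin H a) (χ : stabilizer G a → ℂ)) {z : stabilizer G a}
    (hz : (z : G) ∈ H) : (χ : stabilizer G a → ℂ) z = 1 := by
  rw [(not_relevant_iff _ _).mp hn z (Subgroup.mem_subgroupOf.mpr hz), D.nonrel_one χ.2 hn]

theorem FData.card_nonrel (D : FData a b H)
    [DecidablePred fun χ : Cfsg.IrrCharacter (stabilizer G a) =>
      IsRelevant (kin H a) (χ : stabilizer G a → ℂ)] :
    (Finset.univ.filter (fun χ : Cfsg.IrrCharacter (stabilizer G a) =>
      ¬ IsRelevant (kin H a) (χ : stabilizer G a → ℂ))).card = kk G a b := by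
  have := D.kin_normal
  have h := sum_degree_sq_not_relevant (kin H a)
  rw [Finset.sum_congr rfl (g := fun _ => (1 : ℂ)) (fun χ hχ => by
    rw [D.nonrel_one χ.2 (Finset.mem_filter.mp hχ).2, one_pow]), Finset.sum_const, nsmul_one,
    D.index_kin] at h
  exact_mod_cast h

/-- The degree of a character nontrivial on the kernel, divided by `kk`. -/
noncomputable def dd (b : Ω) (j : Rel G a H) : ℕ :=
  (exists_degree (isCharacter_of_isIrr (th_irr j))).choose / kk G a b

theorem FData.th_one (D : FData a b H) (j : Rel G a H) :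
    th j 1 = (kk G a b : ℂ) * (dd b j : ℂ) ∧ 0 < dd b j := by
  have := D.kin_normal
  have := Fintype.ofFinite (kin H a)
  obtain ⟨d, hd0, -, hd⟩ := exists_relevant_degree (kin H a) D.cent_kin (th_irr j) j.2
  rw [D.index_kin] at hd
  have hs := (exists_degree (isCharacter_of_isIrr (th_irr j))).choose_spec
  have he : (exists_degree (isCharacter_of_isIrr (th_irr j))).choose = kk G a b * d :=
    Nat.cast_injective (R := ℂ) (hs.symm.trans hd)
  have hk := D.three_le_kk
  have hdd : dd b j = d := by
    show (exists_degree (isCharacter_of_isIrr (th_irr j))).choose / kk G a b = d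
    rw [he, Nat.mul_div_cancel_left _ (by omega)]
  rw [hdd]
  exact ⟨by rw [hd, Nat.cast_mul], hd0⟩

theorem FData.th_out (D : FData a b H) (j : Rel G a H) {x : stabilizer G a}
    (hx : (x : G) ∉ H) : th j x = 0 := by
  have := D.kin_normal
  have := Fintype.ofFinite (kin H a)
  exact relevant_apply_eq_zero (kin H a) D.cent_kin (th_irr j) j.2
    fun h => hx (Subgroup.mem_subgroupOf.mp h)

theorem FData.ne_bot (D : FData a b H) : H ≠ ⊥ := fun h => by
  have := D.hlt
  rw [h, Subgroup.card_bot] at this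
  omega

theorem FData.kin_ne (D : FData a b H) : kin H a ≠ ⊥ ∧ kin H a ≠ ⊤ := by
  constructor
  · intro h
    apply D.ne_bot
    rw [← Subgroup.card_eq_one, ← D.card_kin, h, Subgroup.card_bot]
  · intro h
    have h1 := D.index_kin
    rw [h, Subgroup.index_top] at h1
    have := D.three_le_kk
    omega

variable [Fintype (Rel G a H)]

/-- The sum of the squares of the reduced degrees. -/
noncomputable def RR (G : Type*) [Group G] [Fintype G] [MulAction G Ω] (a b : Ω) (H : Subgroup G)
    [Fintype (stabilizer G a)] [Fintype (Rel G a H)] : ℕ :=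
  ∑ j : Rel G a H, dd b j ^ 2

/-- `|H| = R k + 1`. -/
theorem FData.card_eq (D : FData a b H) : Nat.card H = RR G a b H * kk G a b + 1 := by
  classical
  have h := sum_degree_sq (G := stabilizer G a)
  rw [sum_split (H := H), Finset.sum_congr rfl (g := fun _ => (1 : ℂ)) (fun χ hχ => by
    rw [D.nonrel_one χ.2 (Finset.mem_filter.mp hχ).2, one_pow]), Finset.sum_const, nsmul_one,
    D.card_nonrel, Finset.sum_congr rfl (g := fun j => (kk G a b : ℂ) ^ 2 * (dd b j : ℂ) ^ 2)
      (fun j _ => by rw [← mul_pow, ← (D.th_one j).1]; rfl), ← Finset.mul_sum, D.card_point] at h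
  have h' : kk G a b + kk G a b ^ 2 * RR G a b H = Nat.card H * kk G a b := by
    simp only [RR]
    exact_mod_cast h
  refine Nat.eq_of_mul_eq_mul_right (Nat.card_pos :
    0 < Nat.card ↥(stabilizer G a ⊓ stabilizer G b : Subgroup G)) ?_
  linarith [h']

theorem FData.three_le_RR (D : FData a b H) : 3 ≤ RR G a b H := by
  have hc := D.card_eq
  have hl := D.hlt
  by_contra hlt
  have : RR G a b H * kk G a b ≤ 2 * kk G a b := Nat.mul_le_mul_right _ (by omega)
  omega

/-- A sum over all characters at elements of the kernel. -/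
theorem FData.sum_rel (D : FData a b H)
    (F : Cfsg.IrrCharacter (stabilizer G a) → ℂ) (c : ℂ)
    (hc : ∀ χ : Cfsg.IrrCharacter (stabilizer G a),
      ¬ IsRelevant (kin H a) (χ : stabilizer G a → ℂ) → F χ = c) :
    ∑ j : Rel G a H, F j.1 = (∑ χ, F χ) - (kk G a b : ℂ) * c := by
  classical
  rw [sum_split (H := H) F, Finset.sum_congr rfl (g := fun _ => c)
    (fun χ hχ => hc χ (Finset.mem_filter.mp hχ).2), Finset.sum_const, nsmul_eq_mul, D.card_nonrel]
  ring

theorem FData.sum_th (D : FData a b H) {z : stabilizer G a} (hz : (z : G) ∈ H)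
    (hz1 : (z : G) ≠ 1) : ∑ j : Rel G a H, (dd b j : ℂ) * th j z = -1 := by
  classical
  have h := D.sum_rel (fun χ => (χ : stabilizer G a → ℂ) 1 * (χ : stabilizer G a → ℂ) z) 1
    fun χ hn => by rw [D.nonrel_one χ.2 hn, D.nonrel_val hn hz, one_mul]
  rw [sum_degree_mul_apply, if_neg fun e : z = 1 => hz1 (congrArg Subtype.val e),
    Finset.sum_congr rfl (g := fun j => (kk G a b : ℂ) * ((dd b j : ℂ) * th j z))
      (fun j _ => by rw [← mul_assoc, ← (D.th_one j).1]; rfl), ← Finset.mul_sum] at h
  have hk : (kk G a b : ℂ) ≠ 0 := by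
    have := D.three_le_kk
    exact_mod_cast (by omega : kk G a b ≠ 0)
  refine mul_left_cancel₀ hk ?_
  rw [h]
  ring

theorem FData.sum_norm (D : FData a b H) {z : stabilizer G a} (hz : (z : G) ∈ H)
    (hz1 : (z : G) ≠ 1) :
    ∑ j : Rel G a H, th j z * conj (th j z) =
      (Nat.card (Subgroup.centralizer ({(z : G)} : Set G)) : ℂ) - kk G a b := by
  classical
  have h := D.sum_rel (fun χ => (χ : stabilizer G a → ℂ) z * conj ((χ : stabilizer G a → ℂ) z)) 1
    fun χ hn => by rw [D.nonrel_val hn hz, map_one, one_mul]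
  rw [second_orthogonality, if_pos (IsConj.refl z), D.card_cent hz hz1, mul_one] at h
  exact h

end CfsgLib.ZassenhausSimple.Suz
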