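import Cfsg.Agent.Lib.ZassenhausSimple.Suzuki.Local
import Cfsg.Agent.Lib.Char.Generalized
import Cfsg.Agent.Lib.Char.PermChar
import Cfsg.Agent.S0881

/-!
# Zassenhaus groups with a large kernel: restriction of characters to a point stabiliser
-/

set_option autoImplicit false
set_option linter.unusedSectionVars false

namespace CfsgLib.ZassenhausSimple.Suz

open MulAction CfsgLib.Char CfsgLib.Char.Zassenhaus CfsgLib.Classical22.CTK
open scoped ComplexConjugate

variable {G Ω : Type*} [Group G] [Fintype G] [MulAction G Ω] [Fintype Ω]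
variable {a b : Ω} {H : Subgroup G} [Fintype (stabilizer G a)]

/-- The Steinberg character. -/
noncomputable abbrev stb (G Ω : Type*) [Group G] [MulAction G Ω] : G → ℂ :=
  fun g => (Nat.card (fixedBy Ω g) : ℂ) - 1

theorem FData.stb_irr (D : FData a b H) : Cfsg.IsIrrCharacter G (stb G Ω) := by
  have := CfsgLib.Char.Zassenhaus.isPretransitive D.hZ
  refine (permChar_sub_one_irr_iff (G := G) (X := Ω) ?_).2 D.hZ.2.1
  rw [Nat.card_eq_fintype_card, ← D.hHcard]
  have := (Nat.card_pos : 0 < Nat.card H)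
  omega

theorem FData.stb_kernel (D : FData a b H) {v : G} (hv : v ∈ H) (hv1 : v ≠ 1) : stb G Ω v = 0 := by
  have h : Nat.card (fixedBy Ω v) = 1 := by
    rw [Nat.card_eq_one_iff_unique]
    exact ⟨⟨fun c d => Subtype.ext ((D.hHfix v hv hv1 _ c.2).trans (D.hHfix v hv hv1 _ d.2).symm)⟩,
      ⟨⟨a, mem_stabilizer_iff.mp (D.hHa hv)⟩⟩⟩
  simp [stb, h]

theorem FData.stb_one (D : FData a b H) : stb G Ω 1 = (Nat.card H : ℂ) := by
  have h : Nat.card (fixedBy Ω (1 : G)) = Nat.card H + 1 := by
    rw [D.hHcard, ← Nat.card_eq_fintype_card]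
    exact Nat.card_congr (Equiv.subtypeUnivEquiv fun c => one_smul G c)
  show (Nat.card (fixedBy Ω (1 : G)) : ℂ) - 1 = _
  rw [h]
  push_cast
  ring

/-- The irreducible characters with a linear constituent on the point stabiliser. -/
theorem FData.classify (D : FData a b H) {χ : G → ℂ}
    (hχ : Cfsg.IsIrrCharacter G χ) {ψ : Cfsg.IrrCharacter (stabilizer G a)}
    (hψ : ¬ IsRelevant (kin H a) (ψ : stabilizer G a → ℂ))
    (hc : Cfsg.classInner (fun z : stabilizer G a => χ z) ψ ≠ 0) :
    χ = (fun _ => 1) ∨ χ = stb G Ω ∨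
      ((∀ v ∈ H, v ≠ 1 → χ v = 1) ∧ χ 1 = (Nat.card H : ℂ) + 1) := by
  classical
  have := D.simple
  have := CfsgLib.Char.Zassenhaus.isPretransitive D.hZ
  have hχc := isClassFunction_of_isIrr hχ
  by_cases h1 : (ψ : stabilizer G a → ℂ) = fun _ => 1
  · rw [h1, ← frobenius_reciprocity' (stabilizer G a) _ hχc, ← permChar_eq_indFun (G := G) a] at hc
    by_cases hχ1 : χ = fun _ => 1
    · exact Or.inl hχ1
    · refine Or.inr (Or.inl ?_)
      by_contra hne
      apply hc
      rw [show (fun g : G => (Nat.card (fixedBy Ω g) : ℂ)) = stb G Ω + (fun _ => (1 : ℂ)) from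
          funext fun g => by simp [stb], classInner_add_right, classInner_irr_ne hχ D.stb_irr hne,
        classInner_irr_ne hχ isIrrCharacter_one hχ1, add_zero]
  · have hlt : kk G a b < Fintype.card Ω - 2 := by
      have := D.hlt
      rw [← D.hHcard]
      omega
    obtain ⟨hirr, hval⟩ := Cfsg.Agent.S0881.result D.hZ D.hab D.hodd hlt H D.hHa D.hHcard D.hHfix
      (ψ : stabilizer G a → ℂ) ⟨isCharacter_of_isIrr ψ.2, D.nonrel_one ψ.2 hψ⟩
      (fun z hz => D.nonrel_val hψ hz) h1
    rw [← frobenius_reciprocity' (stabilizer G a) _ hχc] at hc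
    have he : χ = Cfsg.indFun (stabilizer G a) (ψ : stabilizer G a → ℂ) := by
      by_contra hne
      exact hc (classInner_irr_ne hχ hirr hne)
    refine Or.inr (Or.inr ⟨fun v hv hv1 => he ▸ hval v hv hv1, ?_⟩)
    rw [he, indFun_one, D.nonrel_one ψ.2 hψ, mul_one, index_stabilizer_of_transitive,
      Nat.card_eq_fintype_card, ← D.hHcard]
    push_cast
    rfl

variable [Fintype (Rel G a H)]

/-- The restriction to the point stabiliser of a character, on the kernel. -/
theorem FData.res_val (D : FData a b H) {χ : G → ℂ} (hχ : Cfsg.IsCharacter G χ) :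
    ∃ (n : ℕ) (m : Rel G a H → ℕ),
      (n ≠ 0 → ∃ ψ : Cfsg.IrrCharacter (stabilizer G a),
        ¬ IsRelevant (kin H a) (ψ : stabilizer G a → ℂ) ∧
          Cfsg.classInner (fun z : stabilizer G a => χ z) ψ ≠ 0) ∧
      (∀ j, Cfsg.classInner (fun z : stabilizer G a => χ z) (th j) = m j) ∧
      χ 1 = (n : ℂ) + (kk G a b : ℂ) * ∑ j, (m j : ℂ) * (dd b j : ℂ) ∧
      (∀ (v : G) (hv : v ∈ H), χ v = (n : ℂ) + ∑ j, (m j : ℂ) * th j ⟨v, D.hHa hv⟩) ∧
      (n = 0 → ∀ z : stabilizer G a, χ z = ∑ j, (m j : ℂ) * th j z) := by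
  classical
  obtain ⟨m, hm, hmi⟩ := char_decomp (isCharacter_res (stabilizer G a) hχ)
  set Nr := Finset.univ.filter (fun ψ : Cfsg.IrrCharacter (stabilizer G a) =>
    ¬ IsRelevant (kin H a) (ψ : stabilizer G a → ℂ)) with hNr
  refine ⟨∑ ψ ∈ Nr, m ψ, fun j => m j.1, fun hn => ?_, fun j => hmi j.1, ?_, fun v hv => ?_,
    fun hn z => ?_⟩
  · obtain ⟨ψ, hψ, hne⟩ := Finset.exists_ne_zero_of_sum_ne_zero hn
    refine ⟨ψ, (Finset.mem_filter.mp hψ).2, ?_⟩
    rw [show Cfsg.classInner (fun z : stabilizer G a => χ z) ψ = (m ψ : ℂ) from hmi ψ]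
    exact_mod_cast hne
  · have h := congrFun hm 1
    simp only [Finset.sum_apply, Pi.smul_apply, smul_eq_mul] at h
    rw [sum_split (H := H)] at h
    rw [show χ 1 = χ ((1 : stabilizer G a) : G) from rfl]
    refine h.trans (congrArg₂ (· + ·) ?_ ?_)
    · push_cast
      exact Finset.sum_congr rfl fun ψ hψ => by
        rw [D.nonrel_one ψ.2 (Finset.mem_filter.mp hψ).2, mul_one]
    · rw [Finset.mul_sum]
      exact Finset.sum_congr rfl fun j _ => by
        rw [show (j.1 : stabilizer G a → ℂ) 1 = th j 1 from rfl, (D.th_one j).1]; ring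
  · have h := congrFun hm ⟨v, D.hHa hv⟩
    simp only [Finset.sum_apply, Pi.smul_apply, smul_eq_mul] at h
    rw [sum_split (H := H)] at h
    refine h.trans (congrArg₂ (· + ·) ?_ rfl)
    push_cast
    exact Finset.sum_congr rfl fun ψ hψ => by
      rw [D.nonrel_val (Finset.mem_filter.mp hψ).2 (z := ⟨v, D.hHa hv⟩) hv, mul_one]
  · have h := congrFun hm z
    simp only [Finset.sum_apply, Pi.smul_apply, smul_eq_mul] at h
    rw [sum_split (H := H), Finset.sum_eq_zero fun ψ hψ => by
      rw [Finset.sum_eq_zero_iff.mp hn ψ hψ, Nat.cast_zero, zero_mul], zero_add] at h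
    exact h


/-- A relevant character sums to zero over the kernel. -/
theorem FData.sum_kernel (D : FData a b H) [Fintype H] (j : Rel G a H) :
    ∑ v : H, th j ⟨(v : G), D.hHa v.2⟩ = 0 := by
  classical
  have hne : th j ≠ fun _ => 1 := fun e => by
    obtain ⟨z, -, hz⟩ := j.2
    exact hz (by show th j z = th j 1; rw [e])
  have h := classInner_irr_ne (th_irr j) isIrrCharacter_one hne
  rw [classInner_def] at h
  have h' := (mul_eq_zero.mp h).resolve_left (inv_ne_zero card_ne_zero')
  simp only [map_one, mul_one] at h'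
  rw [← h']
  rw [← Finset.sum_subset (Finset.subset_univ
    (Finset.univ.filter fun z : stabilizer G a => (z : G) ∈ H))
    (fun z _ hz => D.th_out j fun hm => hz (Finset.mem_filter.mpr ⟨Finset.mem_univ _, hm⟩))]
  refine Finset.sum_bij' (fun v _ => (⟨(v : G), D.hHa v.2⟩ : stabilizer G a))
    (fun z hz => ⟨(z : G), (Finset.mem_filter.mp hz).2⟩)
    (fun v _ => Finset.mem_filter.mpr ⟨Finset.mem_univ _, v.2⟩) (fun z _ => Finset.mem_univ _)
    (fun v _ => rfl) (fun z _ => rfl) (fun v _ => rfl)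

/-- The differences of two relevant characters of equal degree, induced, are orthogonal to class
functions constant on the nonidentity elements of the kernel. -/
theorem FData.diff_const (D : FData a b H) (i j : Rel G a H) (hij : dd b i = dd b j) {Φ : G → ℂ}
    (hΦ : Cfsg.IsClassFunction G Φ) {c : ℂ} (hc : ∀ v ∈ H, v ≠ 1 → Φ v = c) :
    Cfsg.classInner (Cfsg.indFun (stabilizer G a) (th i - th j)) Φ = 0 := by
  classical
  rw [frobenius_reciprocity (stabilizer G a) _ hΦ]
  have he : Cfsg.classInner (th i - th j) (fun z : stabilizer G a => Φ z) =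
      Cfsg.classInner (th i - th j) (c • fun _ : stabilizer G a => (1 : ℂ)) := by
    simp only [classInner_def]
    congr 1
    refine Finset.sum_congr rfl fun x _ => ?_
    by_cases hxH : (x : G) ∈ H
    · by_cases hx1 : x = 1
      · subst hx1
        simp [(D.th_one i).1, (D.th_one j).1, hij]
      · rw [hc x hxH fun e => hx1 (Subtype.ext e)]
        simp
    · simp [D.th_out i hxH, D.th_out j hxH]
  have hne : ∀ l : Rel G a H, th l ≠ fun _ => 1 := fun l e => by
    obtain ⟨z, -, hz⟩ := l.2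
    exact hz (by show th l z = th l 1; rw [e])
  rw [he, classInner_smul_right, classInner_sub_left, classInner_irr_ne (th_irr i) isIrrCharacter_one
    (hne i), classInner_irr_ne (th_irr j) isIrrCharacter_one (hne j), sub_zero, mul_zero]

end CfsgLib.ZassenhausSimple.Suz
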