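import Cfsg.Agent.Lib.ZassenhausSimple.Suzuki.Setup
import Cfsg.Agent.Lib.Char.PermChar
import Cfsg.Agent.Lib.PronormalPSL.Abstract

/-!
# Simple Zassenhaus groups with a Suzuki 2-group as kernel: the fixed-point-free elements
-/

set_option autoImplicit false
set_option linter.unusedSectionVars false

namespace CfsgLib.ZassenhausSimple.Suz

open MulAction CfsgLib.Char CfsgLib.Char.Zassenhaus CfsgLib.Classical22.CTK
open scoped ComplexConjugate

variable {G Ω : Type*} [Group G] [Fintype G] [MulAction G Ω] [Fintype Ω]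
variable {a b : Ω} {H : Subgroup G}

/-- An element without fixed points. -/
def SR (Ω : Type*) [MulAction G Ω] (x : G) : Prop := ∀ c : Ω, x • c ≠ c

theorem sr_conj (g : G) {x : G} (hx : SR Ω x) : SR Ω (g * x * g⁻¹) := fun c h => by
  apply hx (g⁻¹ • c)
  rw [mul_smul, mul_smul] at h
  exact eq_inv_smul_iff.mpr h

theorem sr_inv {x : G} (hx : SR Ω x) : SR Ω x⁻¹ := fun c h =>
  hx c (by rwa [inv_smul_eq_iff, eq_comm] at h)

theorem sr_ne_one (a : Ω) {x : G} (hx : SR Ω x) : x ≠ 1 := fun e => hx a (by rw [e, one_smul])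

theorem cent_conj (g x : G) : (Subgroup.centralizer {x}).map (MulAut.conj g).toMonoidHom =
    Subgroup.centralizer {g * x * g⁻¹} := by
  ext y
  constructor
  · rintro ⟨z, hz, rfl⟩
    rw [Subgroup.mem_centralizer_singleton_iff]
    have hz' := Subgroup.mem_centralizer_singleton_iff.mp hz
    show g * z * g⁻¹ * (g * x * g⁻¹) = g * x * g⁻¹ * (g * z * g⁻¹)
    calc g * z * g⁻¹ * (g * x * g⁻¹) = g * (z * x) * g⁻¹ := by group
      _ = g * (x * z) * g⁻¹ := by rw [hz']
      _ = _ := by group
  · intro hy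
    rw [Subgroup.mem_centralizer_singleton_iff] at hy
    refine ⟨g⁻¹ * y * g, Subgroup.mem_centralizer_singleton_iff.mpr ?_, by simp [mul_assoc]⟩
    calc g⁻¹ * y * g * x = g⁻¹ * (y * (g * x * g⁻¹)) * g := by group
      _ = g⁻¹ * (g * x * g⁻¹ * y) * g := by rw [hy]
      _ = _ := by group

theorem card_cent_conj (g x : G) : Nat.card (Subgroup.centralizer {g * x * g⁻¹}) =
    Nat.card (Subgroup.centralizer {x}) := by
  rw [← cent_conj, Subgroup.card_map_of_injective (MulAut.conj g).injective]

/-- An involution commutes with no fixed-point-free element. -/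
theorem ZData.not_commute (D : ZData a b H) {x s : G} (hx : SR Ω x) (hs : orderOf s = 2) :
    s * x ≠ x * s := by
  intro h
  obtain ⟨c, hc, hu⟩ := D.fix_unique hs
  refine hx c (hu _ ?_)
  show s • x • c = x • c
  rw [← mul_smul, h, mul_smul, hc]

theorem ZData.odd_order (D : ZData a b H) {x : G} (hx : SR Ω x) : Odd (orderOf x) := by
  by_contra h
  obtain ⟨m, hm⟩ := Nat.not_odd_iff_even.mp h
  have hpos := orderOf_pos x
  refine D.not_commute hx (s := x ^ m) (orderOf_eq_prime ?_ ?_) ?_
  · rw [← pow_mul, show m * 2 = orderOf x by omega, pow_orderOf_eq_one]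
  · exact pow_ne_one_of_lt_orderOf (by omega) (by omega)
  · exact (Commute.refl x).pow_left m

/-- The centraliser of a fixed-point-free element acts semiregularly. -/
theorem ZData.cent_sr (D : ZData a b H) {x y : G} (hx : SR Ω x) (hy : y * x = x * y) (hy1 : y ≠ 1) :
    SR Ω y := by
  intro c hc
  have h1 : y • (x • c) = x • c := by rw [← mul_smul, hy, mul_smul, hc]
  have h2 : y • (x • x • c) = x • x • c := by rw [← mul_smul, hy, mul_smul, h1]
  have hne : x • x • c ≠ c := by
    intro h
    obtain ⟨j, hj⟩ := D.odd_order hx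
    apply hx c
    have : (x ^ 2) ^ j • c = c := smul_pow_fix (by rw [pow_two, mul_smul, h]) j
    calc x • c = x • ((x ^ 2) ^ j • c) := by rw [this]
      _ = c := by rw [← mul_smul, ← pow_mul, ← pow_succ', ← hj, pow_orderOf_eq_one, one_smul]
  exact hy1 (eq_one_of_fix D.hZ (hx c).symm (hx (x • c)).symm hne.symm hc h1 h2)
where
  smul_pow_fix {g : G} {c : Ω} (h : g • c = c) : ∀ k : ℕ, g ^ k • c = c
    | 0 => by simp
    | k + 1 => by rw [pow_succ', mul_smul, smul_pow_fix h k, h]

theorem ZData.cent_odd (D : ZData a b H) {x : G} (hx : SR Ω x) :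
    Odd (Nat.card (Subgroup.centralizer {x})) := by
  by_contra h
  obtain ⟨y, hy⟩ := exists_prime_orderOf_dvd_card' (G := Subgroup.centralizer {x}) 2
    (even_iff_two_dvd.mp (Nat.not_odd_iff_even.mp h))
  exact D.not_commute hx (s := (y : G)) (by rw [Subgroup.orderOf_coe, hy])
    (Subgroup.mem_centralizer_singleton_iff.mp y.2)

/-- A fixed-point-free element inverted by an involution has an abelian centraliser, inverted by
the involution. -/
theorem ZData.inverts (D : ZData a b H) {x s : G} (hx : SR Ω x) (hs : orderOf s = 2)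
    (hsx : s * x * s = x⁻¹) {y : G} (hy : y ∈ Subgroup.centralizer {x}) : s * y * s = y⁻¹ := by
  have hss : s * s = 1 := by rw [← pow_two, ← hs, pow_orderOf_eq_one]
  refine CfsgLib.PronormalPSL.inverts_of_fpf hss (fun z hz => ?_) (fun z hz hc => ?_) y hy
  · rw [Subgroup.mem_centralizer_singleton_iff] at hz ⊢
    have hsx' : s * x⁻¹ * s = x := by
      rw [← hsx]
      calc s * (s * x * s) * s = (s * s) * x * (s * s) := by group
        _ = x := by rw [hss, one_mul, mul_one]
    have hz' : z * x⁻¹ = x⁻¹ * z := (Commute.inv_right hz).eq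
    calc s * z * s * x = s * z * (s * x * s) * s := by
          rw [show s * z * (s * x * s) * s = s * z * s * x * (s * s) by group, hss, mul_one]
      _ = s * (z * x⁻¹) * s := by rw [hsx]; group
      _ = s * (x⁻¹ * z) * s := by rw [hz']
      _ = (s * x⁻¹ * s) * (s * z * s) := by
          rw [show (s * x⁻¹ * s) * (s * z * s) = s * x⁻¹ * (s * s) * (z * s) by group, hss, mul_one]
          group
      _ = x * (s * z * s) := by rw [hsx']
  · by_contra hz1
    exact D.not_commute (D.cent_sr hx (Subgroup.mem_centralizer_singleton_iff.mp hz) hz1) hs hc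

theorem ZData.cent_comm (D : ZData a b H) {x s : G} (hx : SR Ω x) (hs : orderOf s = 2)
    (hsx : s * x * s = x⁻¹) {y z : G} (hy : y ∈ Subgroup.centralizer {x})
    (hz : z ∈ Subgroup.centralizer {x}) : y * z = z * y := by
  have hss : s * s = 1 := by rw [← pow_two, ← hs, pow_orderOf_eq_one]
  have h := D.inverts hx hs hsx ((Subgroup.centralizer {x}).mul_mem hy hz)
  apply inv_injective
  rw [← h, show s * (y * z) * s = (s * y * s) * (s * z * s) by
    rw [show (s * y * s) * (s * z * s) = s * y * (s * s) * (z * s) by group, hss, mul_one]; group,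
    D.inverts hx hs hsx hy, D.inverts hx hs hsx hz, mul_inv_rev]

/-- All nonidentity elements of such a centraliser have this centraliser. -/
theorem ZData.cent_eq (D : ZData a b H) {x s : G} (hx : SR Ω x) (hs : orderOf s = 2)
    (hsx : s * x * s = x⁻¹) {y : G} (hy : y ∈ Subgroup.centralizer {x}) (hy1 : y ≠ 1) :
    Subgroup.centralizer {y} = Subgroup.centralizer {x} := by
  have hyx := Subgroup.mem_centralizer_singleton_iff.mp hy
  have hy' := D.cent_sr hx hyx hy1
  have hxy : x ∈ Subgroup.centralizer {y} := Subgroup.mem_centralizer_singleton_iff.mpr hyx.symm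
  refine le_antisymm (fun z hz => Subgroup.mem_centralizer_singleton_iff.mpr ?_)
    (fun z hz => Subgroup.mem_centralizer_singleton_iff.mpr (D.cent_comm hx hs hsx hz hy))
  exact D.cent_comm hy' hs (D.inverts hx hs hsx hy) hz hxy

/-- The fixed-point-free elements inverted by some involution. -/
def Real' (Ω : Type*) [MulAction G Ω] (x : G) : Prop :=
  SR Ω x ∧ ∃ s : G, orderOf s = 2 ∧ s * x * s = x⁻¹

theorem real_conj (g : G) {x : G} (hx : Real' Ω x) : Real' Ω (g * x * g⁻¹) := by
  obtain ⟨h, s, hs, hsx⟩ := hx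
  refine ⟨sr_conj g h, g * s * g⁻¹, ?_, ?_⟩
  · rw [← MulAut.conj_apply, MulEquiv.orderOf_eq, hs]
  · calc g * s * g⁻¹ * (g * x * g⁻¹) * (g * s * g⁻¹) = g * (s * x * s) * g⁻¹ := by group
      _ = (g * x * g⁻¹)⁻¹ := by rw [hsx]; group

/-- A fixed-point-free element whose centraliser order shares a prime with that of a real one is
conjugate into its centraliser. -/
theorem ZData.common_prime (D : ZData a b H) {w x : G} (hw : Real' Ω w) (hx : SR Ω x) {p : ℕ}
    (hp : p.Prime) (h1 : p ∣ Nat.card (Subgroup.centralizer {w}))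
    (h2 : p ∣ Nat.card (Subgroup.centralizer {x})) :
    ∃ g : G, g * x * g⁻¹ ∈ Subgroup.centralizer {w} := by
  obtain ⟨hwS, s, hs, hsw⟩ := hw
  haveI := Fact.mk hp
  obtain ⟨y, hy⟩ := exists_prime_orderOf_dvd_card' (G := Subgroup.centralizer {w}) p h1
  have hy1 : (y : G) ≠ 1 := fun e => by
    rw [← Subgroup.orderOf_coe, e, orderOf_one] at hy
    exact hp.one_lt.ne hy
  have hpg : ∀ z : G, orderOf z = p → IsPGroup p (Subgroup.zpowers z) := fun z hz =>
    IsPGroup.of_card (n := 1) (by rw [Nat.card_zpowers, hz, pow_one])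
  obtain ⟨P, hP⟩ := (hpg (y : G) (by rw [Subgroup.orderOf_coe, hy])).exists_le_sylow
  have hyP : (y : G) ∈ P := hP (Subgroup.mem_zpowers _)
  haveI : Nontrivial (P : Subgroup G) :=
    ⟨⟨⟨y, hyP⟩, 1, fun e => hy1 (congrArg Subtype.val e)⟩⟩
  haveI : Nontrivial (Subgroup.center (P : Subgroup G)) := P.isPGroup'.center_nontrivial
  obtain ⟨z, hz1⟩ := exists_ne (1 : Subgroup.center (P : Subgroup G))
  have hzc : ∀ v ∈ P, v * ((z : (P : Subgroup G)) : G) = ((z : (P : Subgroup G)) : G) * v :=
    fun v hv => congrArg Subtype.val (Subgroup.mem_center_iff.mp z.2 ⟨v, hv⟩)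
  have hzC : ((z : (P : Subgroup G)) : G) ∈ Subgroup.centralizer {w} := by
    rw [← D.cent_eq hwS hs hsw y.2 hy1, Subgroup.mem_centralizer_singleton_iff]
    exact (hzc _ hyP).symm
  have hPC : ∀ v ∈ P, v ∈ Subgroup.centralizer {w} := fun v hv => by
    rw [← D.cent_eq hwS hs hsw hzC fun e => hz1 (Subtype.ext (Subtype.ext e)),
      Subgroup.mem_centralizer_singleton_iff]
    exact hzc v hv
  obtain ⟨y', hy'⟩ := exists_prime_orderOf_dvd_card' (G := Subgroup.centralizer {x}) p h2
  obtain ⟨Q, hQ⟩ := (hpg (y' : G) (by rw [Subgroup.orderOf_coe, hy'])).exists_le_sylow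
  obtain ⟨g, hg⟩ := MulAction.exists_smul_eq G Q P
  refine ⟨g, ?_⟩
  have hgP : g * (y' : G) * g⁻¹ ∈ P := by
    rw [← hg]
    show g * (y' : G) * g⁻¹ ∈ ((g • Q : Sylow p G) : Subgroup G)
    rw [Sylow.coe_subgroup_smul, Subgroup.mem_pointwise_smul_iff_inv_smul_mem]
    simpa [MulAut.smul_def, mul_assoc] using hQ (Subgroup.mem_zpowers _)
  have hne : g * (y' : G) * g⁻¹ ≠ 1 := fun e => by
    rw [conj_eq_one_iff] at e
    rw [← Subgroup.orderOf_coe, e, orderOf_one] at hy'
    exact hp.one_lt.ne hy'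
  rw [← D.cent_eq hwS hs hsw (hPC _ hgP) hne, Subgroup.mem_centralizer_singleton_iff]
  have h := Subgroup.mem_centralizer_singleton_iff.mp y'.2
  calc g * x * g⁻¹ * (g * (y' : G) * g⁻¹) = g * (x * y') * g⁻¹ := by group
    _ = g * ((y' : G) * x) * g⁻¹ := by rw [h]
    _ = _ := by group

/-- The order of such a centraliser divides the number of points. -/
theorem ZData.card_cent_dvd (D : ZData a b H) {x : G} (hx : SR Ω x) :
    Nat.card (Subgroup.centralizer {x}) ∣ Nat.card H + 1 := by
  classical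
  rw [D.hHcard, ← Nat.card_eq_fintype_card]
  have hfree : ∀ c : Ω, stabilizer (Subgroup.centralizer {x}) c = ⊥ := fun c => by
    rw [Subgroup.eq_bot_iff_forall]
    intro g hg
    by_contra hg1
    exact D.cent_sr hx (Subgroup.mem_centralizer_singleton_iff.mp g.2)
      (fun e => hg1 (Subtype.ext e)) c hg
  rw [Nat.card_congr (selfEquivOrbitsQuotientProd hfree), Nat.card_prod]
  exact dvd_mul_left _ _

/-- The number of fixed-point-free elements. -/
theorem ZData.two_mul_card_sr (D : ZData a b H) :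
    (2 * Nat.card {x : G // SR Ω x} : ℤ) =
      (Nat.card H : ℤ) * (((Nat.card H : ℤ) + 1) * kk G a b - Nat.card H + 1) := by
  classical
  have := CfsgLib.Char.Zassenhaus.isPretransitive D.hZ
  have hh2 : 2 ≤ Nat.card H := by have := D.fdata.hlt; omega
  let st : G → ℂ := fun g => (Nat.card (fixedBy Ω g) : ℂ) - 1
  have hirr : Cfsg.IsIrrCharacter G st := by
    refine (permChar_sub_one_irr_iff (G := G) (X := Ω) ?_).2 D.hZ.2.1
    rw [Nat.card_eq_fintype_card, ← D.hHcard]
    omega
  let f : G → ℤ := fun g => (Nat.card (fixedBy Ω g) : ℤ) - 1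
  have hst : ∀ g, st g = (f g : ℂ) := fun g => by simp [st, f]
  have hone : Cfsg.classInner st (fun _ => 1) = 0 := by
    refine classInner_irr_ne hirr isIrrCharacter_one fun e => ?_
    have h := congrFun e 1
    simp only [st] at h
    have hc : Nat.card (fixedBy Ω (1 : G)) = Nat.card H + 1 := by
      rw [D.hHcard, ← Nat.card_eq_fintype_card]
      exact Nat.card_congr (Equiv.subtypeUnivEquiv fun c => one_smul G c)
    rw [hc] at h
    have : ((Nat.card H : ℕ) : ℂ) = ((1 : ℕ) : ℂ) := by push_cast at h ⊢; linear_combination h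
    have := Nat.cast_injective this
    omega
  have hsum : ∑ g : G, f g = 0 := by
    rw [classInner_def] at hone
    have := (mul_eq_zero.mp hone).resolve_left (inv_ne_zero card_ne_zero')
    have h' : ((∑ g : G, f g : ℤ) : ℂ) = ((0 : ℤ) : ℂ) := by
      push_cast
      simpa [hst] using this
    exact_mod_cast h'
  have hsq : ∑ g : G, f g ^ 2 = (Nat.card G : ℤ) := by
    have h := classInner_irr_self hirr
    rw [classInner_def, inv_mul_eq_iff_eq_mul₀ card_ne_zero', mul_one] at h
    have h' : ((∑ g : G, f g ^ 2 : ℤ) : ℂ) = ((Nat.card G : ℤ) : ℂ) := by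
      push_cast
      rw [← h]
      exact Finset.sum_congr rfl fun g _ => by rw [hst, map_intCast, pow_two]
    exact_mod_cast h'
  have hval : ∀ g : G, f g ^ 2 - f g =
      (if g = 1 then (Nat.card H : ℤ) ^ 2 - Nat.card H else 0) + (if SR Ω g then 2 else 0) := by
    intro g
    by_cases hg : g = 1
    · subst hg
      have hc : f 1 = Nat.card H := by
        simp only [f]
        rw [show Nat.card (fixedBy Ω (1 : G)) = Nat.card H + 1 by
          rw [D.hHcard, ← Nat.card_eq_fintype_card]
          exact Nat.card_congr (Equiv.subtypeUnivEquiv fun c => one_smul G c)]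
        push_cast; ring
      rw [if_pos rfl, if_neg (fun h => h a (one_smul G a)), hc, add_zero]
    rw [if_neg hg, zero_add]
    have hle : Nat.card (fixedBy Ω g) ≤ 2 := by
      by_contra hlt
      have hcard : 2 < (fixedBy Ω g).ncard := by rw [← Nat.card_coe_set_eq]; omega
      obtain ⟨c₁, c₂, c₃, h1, h2, h3, h12, h13, h23⟩ :=
        (Set.two_lt_ncard_iff (Set.toFinite _)).mp hcard
      exact hg (eq_one_of_fix D.hZ h12 h23 h13 h1 h2 h3)
    have h0 : Nat.card (fixedBy Ω g) = 0 ↔ SR Ω g := by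
      rw [Nat.card_coe_set_eq, Set.ncard_eq_zero (Set.toFinite _), Set.eq_empty_iff_forall_notMem]
      rfl
    simp only [f]
    by_cases hsr : SR Ω g
    · rw [if_pos hsr, h0.mpr hsr]; norm_num
    · rw [if_neg hsr]
      have : Nat.card (fixedBy Ω g) ≠ 0 := fun e => hsr (h0.mp e)
      rcases (show Nat.card (fixedBy Ω g) = 1 ∨ Nat.card (fixedBy Ω g) = 2 by omega) with h | h <;>
        rw [h] <;> norm_num
  have h := Finset.sum_congr rfl (s₁ := (Finset.univ : Finset G)) fun g _ => hval g
  rw [Finset.sum_sub_distrib, hsum, hsq, sub_zero, Finset.sum_add_distrib, Finset.sum_ite_eq',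
    if_pos (Finset.mem_univ _), ← Finset.sum_filter, Finset.sum_const, nsmul_eq_mul,
    ← Fintype.card_subtype, ← Nat.card_eq_fintype_card] at h
  have hG : (Nat.card G : ℤ) = ((Nat.card H : ℤ) + 1) * Nat.card H * kk G a b := by
    rw [← card_group D.hZ D.hab, ← D.hHcard]
    push_cast
    simp
  rw [hG] at h
  linear_combination -h

/-- The involutions interchanging two given points. -/
theorem ZData.card_swaps (D : ZData a b H) {c c' : Ω} (hne : c ≠ c') :
    Nat.card {s : G // orderOf s = 2 ∧ s • c = c'} = kk G a b := by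
  have := D.simple
  obtain ⟨g, hg1, hg2⟩ := exists_map D.hZ D.hab hne
  obtain ⟨t, ht, hta, htb⟩ := exists_swap D.hZ D.hab D.hodd
  refine (Nat.card_congr (Equiv.ofBijective
    (fun y : (stabilizer G a ⊓ stabilizer G b : Subgroup G) =>
      (⟨g * (t * y) * g⁻¹, ?_, ?_⟩ : {s : G // orderOf s = 2 ∧ s • c = c'}))
    ⟨fun y z e => ?_, fun s => ?_⟩)).symm
  · rw [← MulAut.conj_apply, MulEquiv.orderOf_eq]
    exact swap_involution D.hZ D.hab D.hodd
      (by rw [mul_smul, mem_stabilizer_iff.mp y.2.1, hta])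
      (by rw [mul_smul, mem_stabilizer_iff.mp y.2.2, htb])
  · rw [← hg1, mul_smul, inv_smul_smul, mul_smul, mul_smul, mem_stabilizer_iff.mp y.2.1, hta, hg2]
  · exact Subtype.ext (mul_left_cancel (mul_left_cancel (mul_right_cancel
      (congrArg Subtype.val e))))
  · obtain ⟨x, hx2, hx⟩ := s
    have hxx : x * x = 1 := by rw [← pow_two, ← hx2, pow_orderOf_eq_one]
    have hxc : x • c' = c := by rw [← hx, ← mul_smul, hxx, one_smul]
    refine ⟨⟨t⁻¹ * (g⁻¹ * x * g), swap_mul_mem D.hab hta htb
      (by rw [mul_smul, mul_smul, hg1, hx, inv_smul_eq_iff, hg2])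
      (by rw [mul_smul, mul_smul, hg2, hxc, inv_smul_eq_iff, hg1])⟩, Subtype.ext ?_⟩
    show g * (t * (t⁻¹ * (g⁻¹ * x * g))) * g⁻¹ = x
    group

end CfsgLib.ZassenhausSimple.Suz
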